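import Groth.Agent.H4Inj.Indecomposable
import Mathlib.RingTheory.Ideal.Quotient.Basic

/-!
# The injective hull of `R ⧸ m` for a maximal ideal `m`
-/

universe u v

open InjHull LocCoh

namespace Groth.Agent.H4Matlis

variable {R : Type u} [CommRing R] {m : Ideal R} [hm : m.IsMaximal]
variable {E : Type u} [AddCommGroup E] [Module R E] {f : (R ⧸ m) →ₗ[R] E}

include hm

theorem mem_range_of_killed (hf : IsEssentialInj f) {x : E} (hx : ∀ a ∈ m, a • x = 0) :
    x ∈ LinearMap.range f := by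
  by_cases hx0 : x = 0
  · simp [hx0]
  obtain ⟨r, hr, hr0⟩ := H4Inj.exists_smul_mem_range hf hx0
  obtain ⟨s, hs⟩ : ∃ s, s * r - 1 ∈ m := by
    obtain ⟨y, i, hi, h1⟩ := hm.exists_inv (fun h => hr0 (hx r h))
    refine ⟨y, ?_⟩
    have h2 : y * r - 1 = -i := by rw [← h1]; ring
    rw [h2]
    exact neg_mem hi
  have hsx : s • r • x = x := by
    have := hx _ hs
    rwa [sub_smul, one_smul, sub_eq_zero, mul_smul] at this
  rw [← hsx]
  exact Submodule.smul_mem _ _ hr

theorem smul_range_eq_zero {a : R} (ha : a ∈ m) (y : R ⧸ m) : a • f y = 0 := by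
  obtain ⟨y, rfl⟩ := Ideal.Quotient.mk_surjective y
  rw [← map_smul, show a • Ideal.Quotient.mk m y = Ideal.Quotient.mk m (a * y) from rfl,
    Ideal.Quotient.eq_zero_iff_mem.mpr (m.mul_mem_right y ha), map_zero]

theorem torsionBy_eq_range (hf : IsEssentialInj f) : torsionBy m E = LinearMap.range f := by
  refine le_antisymm (fun x hx => mem_range_of_killed hf fun a ha =>
    (Submodule.mem_torsionBySet_iff _ _).mp hx ⟨a, ha⟩) ?_
  rintro _ ⟨y, rfl⟩
  exact (Submodule.mem_torsionBySet_iff _ _).mpr fun a => smul_range_eq_zero a.2 y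

/-- `Hom(R/m, E) ≅ R/m`. -/
theorem exists_homEquiv (hf : IsEssentialInj f) :
    Nonempty (((R ⧸ m) →ₗ[R] E) ≃ₗ[R] (R ⧸ m)) := by
  have hmem : ∀ φ : (R ⧸ m) →ₗ[R] E, φ 1 ∈ LinearMap.range f := fun φ =>
    mem_range_of_killed hf fun a ha => smul_range_eq_zero ha 1
  have hinj : Function.Injective fun φ : (R ⧸ m) →ₗ[R] E => φ 1 := by
    intro φ ψ h
    ext
    exact h
  refine ⟨(LinearEquiv.ofBijective ((LinearMap.applyₗ (1 : R ⧸ m)).codRestrict _ hmem) ⟨?_, ?_⟩).trans
    (LinearEquiv.ofInjective f hf.injective).symm⟩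
  · intro φ ψ h
    exact hinj (congrArg Subtype.val h)
  · rintro ⟨x, y, rfl⟩
    obtain ⟨y, rfl⟩ := Ideal.Quotient.mk_surjective y
    exact ⟨y • f, Subtype.ext (by
      show y • f 1 = _
      rw [← map_smul]
      congr 1
      exact (Algebra.smul_def y (1 : R ⧸ m)).trans (mul_one _))⟩

theorem isPowerTorsion [IsNoetherianRing R] (hf : IsInjectiveHull f) : IsPowerTorsion m E := by
  set T := ⨆ n : ℕ, Submodule.torsionBySet R E ((m ^ n : Ideal R) : Set R)
  obtain ⟨C, hC⟩ := H4Inj.exists_isCompl_of_injective T (H4Inj.injective_powerTorsion hf.isInjective m)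
  have hCbot : C = ⊥ := by
    by_contra h
    obtain ⟨x, ⟨hxC, y, rfl⟩, hx0⟩ := Submodule.exists_mem_ne_zero_of_ne_bot (hf.essential C h)
    refine hx0 (Submodule.disjoint_def.mp hC.disjoint _ ?_ hxC)
    refine Submodule.mem_iSup_of_mem 1 ((Submodule.mem_torsionBySet_iff _ _).mpr fun a => ?_)
    exact smul_range_eq_zero (by simpa using a.2) y
  intro x
  have hx : x ∈ T := by
    rw [show T = ⊤ by simpa [hCbot] using hC.sup_eq_top]
    trivial
  have hdir : Directed (· ≤ ·) fun n : ℕ => Submodule.torsionBySet R E ((m ^ n : Ideal R) : Set R) :=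
    Monotone.directed_le fun a b hab =>
      Submodule.torsionBySet_le_torsionBySet_of_subset (Ideal.pow_le_pow_right hab)
  obtain ⟨n, hn⟩ := (Submodule.mem_iSup_of_directed _ hdir).mp hx
  exact ⟨n, fun a ha => (Submodule.mem_torsionBySet_iff _ _).mp hn ⟨a, ha⟩⟩

omit hm in
theorem injective_applyₗ [IsLocalRing R] {f : IsLocalRing.ResidueField R →ₗ[R] E}
    (hf : IsInjectiveHull f) (G : Type v) [AddCommGroup G] [Module R G] :
    Function.Injective (LinearMap.applyₗ : G →ₗ[R] (G →ₗ[R] E) →ₗ[R] E) := by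
  rw [← LinearMap.ker_eq_bot, Submodule.eq_bot_iff]
  intro g hg
  by_contra hg0
  have hann : LinearMap.ker (LinearMap.toSpanSingleton R G g) ≤ IsLocalRing.maximalIdeal R := by
    refine IsLocalRing.le_maximalIdeal fun h => hg0 ?_
    have : (1 : R) ∈ LinearMap.ker (LinearMap.toSpanSingleton R G g) := by rw [h]; trivial
    simpa using this
  obtain ⟨φ, hφ⟩ := Module.Injective.extension_property (inj := hf.isInjective) R E
    (R ⧸ LinearMap.ker (LinearMap.toSpanSingleton R G g)) G
    ((LinearMap.ker (LinearMap.toSpanSingleton R G g)).liftQ (LinearMap.toSpanSingleton R G g) le_rfl)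
    (LinearMap.ker_eq_bot.mp (Submodule.ker_liftQ_eq_bot _ _ _ le_rfl))
    (f ∘ₗ Submodule.factor hann)
  have h1 : φ g = f (IsLocalRing.residue R 1) := by
    have := LinearMap.congr_fun hφ (Submodule.Quotient.mk 1)
    rw [LinearMap.comp_apply, Submodule.liftQ_apply, LinearMap.toSpanSingleton_apply, one_smul] at this
    rw [this]
    rfl
  have h0 : φ g = 0 := LinearMap.congr_fun (LinearMap.mem_ker.mp hg) φ
  rw [h0, eq_comm, map_eq_zero_iff f hf.injective] at h1
  simp at h1

end Groth.Agent.H4Matlis
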