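import Groth.Agent.H4Matlis.Melkersson
import Groth.Agent.H4Matlis.Hull
import Mathlib.RingTheory.Length
import Mathlib.RingTheory.HopkinsLevitzki
import Mathlib.RingTheory.SimpleModule.Basic
import Mathlib.RingTheory.Artinian.Ring
import Mathlib.LinearAlgebra.FreeModule.Finite.Matrix

/-!
# Matlis duality basics: lengths, finite length biduality, Artinian modules
-/

universe u v

open InjHull LocCoh IsLocalRing

namespace Groth.Agent.H4Matlis

variable {R : Type u} [CommRing R]

theorem isArtinian_quotient_hull [IsNoetherianRing R] {m : Ideal R} [m.IsMaximal] {E : Type u}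
    [AddCommGroup E] [Module R E] {f : (R ⧸ m) →ₗ[R] E} (hf : IsInjectiveHull f) :
    IsArtinian R E := by
  refine isArtinian_of_isArtinian_torsionBy (IsNoetherian.noetherian m) (isPowerTorsion hf) ?_
  rw [torsionBy_eq_range hf.toIsEssentialInj]
  have : IsSimpleModule R (R ⧸ m) := isSimpleModule_iff_isCoatom.mpr (Ideal.IsMaximal.out)
  exact isArtinian_of_linearEquiv (LinearEquiv.ofInjective f hf.injective)

variable [IsLocalRing R]
variable {E : Type u} [AddCommGroup E] [Module R E] {f : ResidueField R →ₗ[R] E}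

/-- Dual of a map along an injective target is surjective. -/
theorem lcomp_surjective (hE : Module.Injective R E) {N M : Type u} [AddCommGroup N] [Module R N]
    [AddCommGroup M] [Module R M] (i : N →ₗ[R] M) (hi : Function.Injective i) :
    Function.Surjective (LinearMap.lcomp R E i) := fun g =>
  Module.Injective.extension_property (inj := hE) R E N M i hi g

omit [IsLocalRing R] in
theorem lcomp_exact {N M P : Type u} [AddCommGroup N] [Module R N] [AddCommGroup M] [Module R M]
    [AddCommGroup P] [Module R P] {i : N →ₗ[R] M} {q : M →ₗ[R] P} (h : Function.Exact i q)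
    (hq : Function.Surjective q) :
    Function.Exact (LinearMap.lcomp R E q) (LinearMap.lcomp R E i) := by
  intro φ
  constructor
  · intro h0
    have hker : LinearMap.ker q ≤ LinearMap.ker φ := by
      intro x hx
      obtain ⟨y, rfl⟩ := (h x).mp hx
      exact LinearMap.congr_fun h0 y
    refine ⟨(LinearMap.ker q).liftQ φ hker ∘ₗ (q.quotKerEquivOfSurjective hq).symm.toLinearMap,
      LinearMap.ext fun x => ?_⟩
    simp [show (q.quotKerEquivOfSurjective hq).symm (q x) = Submodule.Quotient.mk x from
      (LinearEquiv.symm_apply_eq _).mpr rfl]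
  · rintro ⟨ψ, rfl⟩
    ext x
    simp [h.apply_apply_eq_zero]

theorem length_hom_eq_length (hf : IsInjectiveHull f) {M : Type u} [AddCommGroup M] [Module R M]
    (hM : IsFiniteLength R M) : Module.length R (M →ₗ[R] E) = Module.length R M := by
  induction hM with
  | @of_subsingleton M _ _ _ =>
    have : Subsingleton (M →ₗ[R] E) :=
      ⟨fun a b => LinearMap.ext fun x => by simp [Subsingleton.elim x 0]⟩
    rw [Module.length_eq_zero, Module.length_eq_zero]
  | @of_simple_quotient M _ _ N hs _ ih =>
    obtain ⟨I, hI, ⟨e⟩⟩ := isSimpleModule_iff_quot_maximal.mp hs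
    obtain rfl := eq_maximalIdeal hI
    obtain ⟨e'⟩ := exists_homEquiv hf.toIsEssentialInj
    rw [Module.length_eq_add_of_exact (LinearMap.lcomp R E N.mkQ) (LinearMap.lcomp R E N.subtype)
        (fun a b hab => LinearMap.ext fun x => by
          obtain ⟨x, rfl⟩ := Submodule.mkQ_surjective N x
          exact LinearMap.congr_fun hab x)
        (lcomp_surjective hf.isInjective N.subtype Subtype.val_injective)
        (lcomp_exact (LinearMap.exact_subtype_mkQ N) (Submodule.mkQ_surjective N)),
      Module.length_eq_add_of_exact N.subtype N.mkQ Subtype.val_injective (Submodule.mkQ_surjective N)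
        (LinearMap.exact_subtype_mkQ N),
      ih, e.length_eq, (LinearEquiv.congrLeft E R e).length_eq, add_comm]
    congr 1
    exact e'.length_eq

theorem isFiniteLength_hom (hf : IsInjectiveHull f) {M : Type u} [AddCommGroup M] [Module R M]
    (hM : IsFiniteLength R M) : IsFiniteLength R (M →ₗ[R] E) := by
  rw [← Module.length_ne_top_iff, length_hom_eq_length hf hM, Module.length_ne_top_iff]
  exact hM

theorem bijective_applyₗ_of_isFiniteLength (hf : IsInjectiveHull f) {M : Type u} [AddCommGroup M]
    [Module R M] (hM : IsFiniteLength R M) :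
    Function.Bijective (LinearMap.applyₗ : M →ₗ[R] (M →ₗ[R] E) →ₗ[R] E) := by
  refine ⟨injective_applyₗ hf M, LinearMap.range_eq_top.mp ?_⟩
  have hd := isFiniteLength_hom hf (isFiniteLength_hom hf hM)
  obtain ⟨_, _⟩ := isFiniteLength_iff_isNoetherian_isArtinian.mp hd
  by_contra hne
  have hlt := Submodule.length_lt hne
  rw [← (LinearEquiv.ofInjective _ (injective_applyₗ hf M)).length_eq,
    length_hom_eq_length hf (isFiniteLength_hom hf hM), length_hom_eq_length hf hM] at hlt
  exact lt_irrefl _ hlt

omit [IsLocalRing R] in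
theorem exists_least_torsion {I : Ideal R} {M : Type v} [AddCommGroup M] [Module R M]
    (hM : IsPowerTorsion I M) {x : M} (hx : x ≠ 0) :
    ∃ r : R, r • x ∈ torsionBy I M ∧ r • x ≠ 0 := by
  classical
  have h := hM x
  obtain ⟨k, hk⟩ : ∃ k, Nat.find h = k + 1 := by
    refine Nat.exists_eq_succ_of_ne_zero fun h0 => hx ?_
    have h1 := Nat.find_spec h
    rw [h0] at h1
    simpa using h1 1 (by simp)
  have hnot := Nat.find_min h (m := k) (by omega)
  push Not at hnot
  obtain ⟨a, ha, hax⟩ := hnot
  refine ⟨a, (Submodule.mem_torsionBySet_iff _ _).mpr fun b => ?_, hax⟩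
  rw [smul_smul]
  have hmem : (b : R) * a ∈ I ^ (k + 1) := by
    rw [pow_succ']
    exact Ideal.mul_mem_mul b.2 ha
  have h1 := Nat.find_spec h
  rw [hk] at h1
  exact h1 _ hmem

theorem exists_embedding_pi (hf : IsInjectiveHull f) {M : Type u} [AddCommGroup M] [Module R M]
    (hM : IsPowerTorsion (maximalIdeal R) M)
    [Module.Finite (R ⧸ maximalIdeal R) ↥(torsionBy (maximalIdeal R) M)] {n : ℕ}
    (hn : Module.finrank (R ⧸ maximalIdeal R) ↥(torsionBy (maximalIdeal R) M) = n) :
    ∃ g : M →ₗ[R] (Fin n → E), Function.Injective g := by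
  let := Ideal.Quotient.field (maximalIdeal R)
  let b := (Module.finBasisOfFinrankEq (R ⧸ maximalIdeal R) ↥(torsionBy (maximalIdeal R) M) hn).equivFun
  let ψ : ↥(torsionBy (maximalIdeal R) M) →ₗ[R] (Fin n → E) :=
    LinearMap.pi fun i => f ∘ₗ LinearMap.proj i ∘ₗ (b.restrictScalars R).toLinearMap
  have hψ : Function.Injective ψ := fun x y h => b.injective (funext fun i => hf.injective (congrFun h i))
  have : Module.Injective R E := hf.isInjective
  obtain ⟨g, hg⟩ := Module.Injective.extension_property R (Fin n → E) _ M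
    (torsionBy (maximalIdeal R) M).subtype Subtype.val_injective ψ
  refine ⟨g, ?_⟩
  rw [← LinearMap.ker_eq_bot, Submodule.eq_bot_iff]
  intro x hx
  by_contra hx0
  obtain ⟨r, hr, hr0⟩ := exists_least_torsion hM hx0
  have h1 : ψ ⟨r • x, hr⟩ = 0 := by
    rw [← hg, LinearMap.comp_apply, Submodule.subtype_apply, map_smul, LinearMap.mem_ker.mp hx, smul_zero]
  exact hr0 (congrArg Subtype.val (hψ (h1.trans (map_zero ψ).symm) :))

omit [IsLocalRing R] in
theorem isPowerTorsion_of_isArtinian [IsNoetherianRing R] {m : Ideal R} {M : Type v}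
    [AddCommGroup M] [Module R M] [IsArtinian R M] (hm : ∀ n : Ideal R, n.IsMaximal → n = m) :
    IsPowerTorsion m M := by
  intro x
  set I := LinearMap.ker (LinearMap.toSpanSingleton R M x)
  have hart : IsArtinian R (R ⧸ I) :=
    isArtinian_of_injective (I.liftQ (LinearMap.toSpanSingleton R M x) le_rfl)
      (LinearMap.ker_eq_bot.mp (Submodule.ker_liftQ_eq_bot _ _ _ le_rfl))
  have : IsArtinianRing (R ⧸ I) := isArtinian_of_tower R hart
  by_cases htop : I = ⊤
  · refine ⟨0, fun a _ => ?_⟩
    have h1 : (1 : R) ∈ I := htop ▸ Submodule.mem_top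
    rw [show x = 0 by simpa [I] using h1, smul_zero]
  obtain ⟨k, hk⟩ := IsArtinianRing.isNilpotent_jacobson_bot (R := R ⧸ I)
  have hle : m.map (Ideal.Quotient.mk I) ≤ Ideal.jacobson ⊥ := by
    refine le_sInf fun J ⟨_, hJ⟩ => Ideal.map_le_iff_le_comap.mpr ?_
    have hJm := hm _ (Ideal.comap_isMaximal_of_surjective (Ideal.Quotient.mk I) Ideal.Quotient.mk_surjective (H := hJ))
    exact hJm.ge
  refine ⟨k, fun a ha => ?_⟩
  have h2 : (m ^ k).map (Ideal.Quotient.mk I) = ⊥ := by
    rw [Ideal.map_pow, eq_bot_iff]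
    exact (Ideal.pow_right_mono hle k).trans (le_of_eq hk)
  have h3 : a ∈ I := by
    rw [← Ideal.Quotient.eq_zero_iff_mem]
    simpa [h2] using Ideal.mem_map_of_mem (Ideal.Quotient.mk I) ha
  simpa [I] using h3

theorem isArtinian_iff (M : Type v) [AddCommGroup M] [Module R M] [IsNoetherianRing R] :
    IsArtinian R M ↔ (IsPowerTorsion (maximalIdeal R) M ∧
      Module.Finite (R ⧸ maximalIdeal R) ↥(torsionBy (maximalIdeal R) M)) := by
  let := Ideal.Quotient.field (maximalIdeal R)
  constructor
  · intro h
    refine ⟨isPowerTorsion_of_isArtinian fun n hn => eq_maximalIdeal hn, ?_⟩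
    have : IsArtinian (R ⧸ maximalIdeal R) ↥(torsionBy (maximalIdeal R) M) :=
      isArtinian_of_tower R inferInstance
    exact IsSemiprimaryRing.finite_of_isArtinian (R ⧸ maximalIdeal R) (R ⧸ maximalIdeal R) _
  · rintro ⟨h1, h2⟩
    refine isArtinian_of_isArtinian_torsionBy (IsNoetherian.noetherian _) h1 ?_
    exact isArtinian_of_surjective_algebraMap (R := R ⧸ maximalIdeal R) Ideal.Quotient.mk_surjective

end Groth.Agent.H4Matlis
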