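import Groth.Prelude.Def_Wider
import Mathlib.RingTheory.Artinian.Module

/-!
# Melkersson's criterion: power torsion with Artinian socle part is Artinian
-/

universe u v

open LocCoh Pointwise

namespace Groth.Agent.H4Matlis

variable {R : Type u} [CommRing R] {M : Type v} [AddCommGroup M] [Module R M]

theorem isPowerTorsion_submodule {I : Ideal R} (h : IsPowerTorsion I M) (N : Submodule R M) :
    IsPowerTorsion I N := fun x => by
  obtain ⟨n, hn⟩ := h x
  exact ⟨n, fun a ha => Subtype.ext (hn a ha)⟩

/-- The case of one element. -/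
theorem isArtinian_of_powers_torsion (x : R) (htor : ∀ z : M, ∃ k : ℕ, x ^ k • z = 0)
    (hA : IsArtinian R (Submodule.torsionBy R M x)) : IsArtinian R M := by
  rw [← monotone_stabilizes_iff_artinian]
  intro N
  -- `L i k = x^k (N i) ∩ M[x]`
  let L : ℕ → ℕ → Submodule R (Submodule.torsionBy R M x) := fun i k =>
    (x ^ k • (OrderDual.ofDual (N i))).comap (Submodule.subtype _)
  have hle : ∀ {i i'}, i ≤ i' → OrderDual.ofDual (N i') ≤ OrderDual.ofDual (N i) :=
    fun h => N.monotone h
  have hLi : ∀ {i i'} k, i ≤ i' → L i' k ≤ L i k := fun k h => by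
    intro z hz
    obtain ⟨y, hy, hyz⟩ := hz
    exact ⟨y, hle h hy, hyz⟩
  have hLk : ∀ i {k k'}, k ≤ k' → L i k' ≤ L i k := fun i k k' h => by
    intro z hz
    obtain ⟨y, hy, hyz⟩ := hz
    refine ⟨x ^ (k' - k) • y, Submodule.smul_mem _ _ hy, ?_⟩
    rw [← hyz]
    simp only [DistribSMul.toLinearMap_apply, smul_smul, ← pow_add]
    congr 2
    omega
  obtain ⟨j0, hj0⟩ := monotone_stabilizes_iff_artinian.mpr hA
    ⟨fun j => OrderDual.toDual (L j j), fun a b h => OrderDual.toDual_le_toDual.mpr ((hLi b h).trans (hLk a h))⟩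
  have hfix : ∀ k, ∃ i0, ∀ i, i0 ≤ i → L i0 k = L i k := fun k => by
    obtain ⟨i0, hi0⟩ := monotone_stabilizes_iff_artinian.mpr hA
      ⟨fun i => OrderDual.toDual (L i k), fun a b h => hLi k h⟩
    exact ⟨i0, fun i hi => hi0 i hi⟩
  choose ν hν using hfix
  set n := max j0 ((Finset.range j0).sup ν)
  have hstab : ∀ i, n ≤ i → ∀ k, L n k = L i k := by
    intro i hi k
    rcases lt_or_ge k j0 with hk | hk
    · have h1 : ν k ≤ n := le_max_of_le_right (Finset.le_sup (Finset.mem_range.mpr hk))
      rw [← hν k n h1, ← hν k i (h1.trans hi)]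
    · refine le_antisymm ?_ (hLi k hi)
      have hm : L (max i k) (max i k) = L j0 j0 :=
        (hj0 (max i k) (hk.trans (le_max_right i k))).symm
      have h2 : L n k ≤ L j0 j0 := le_trans (hLi k (le_max_left _ _)) (hLk _ hk)
      rw [← hm] at h2
      exact h2.trans ((hLi _ (le_max_left i k)).trans (hLk _ (le_max_right i k)))
  refine ⟨n, fun i hi => le_antisymm (N.monotone hi) ?_⟩
  show OrderDual.ofDual (N n) ≤ OrderDual.ofDual (N i)
  have key : ∀ k, ∀ z ∈ OrderDual.ofDual (N n), x ^ k • z = 0 → z ∈ OrderDual.ofDual (N i) := by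
    intro k
    induction k with
    | zero =>
      intro z _ hz
      rw [pow_zero, one_smul] at hz
      rw [hz]
      exact zero_mem _
    | succ k ih =>
      intro z hz hk
      have hmem : x ^ k • z ∈ Submodule.torsionBy R M x := by
        rw [Submodule.mem_torsionBy_iff, smul_smul, ← pow_succ']
        exact hk
      obtain ⟨y, hy, hyz⟩ := (hstab i hi k).le
        (show (⟨x ^ k • z, hmem⟩ : Submodule.torsionBy R M x) ∈ L n k from ⟨z, hz, rfl⟩)
      have h' : z - y ∈ OrderDual.ofDual (N i) := by
        refine ih (z - y) (Submodule.sub_mem _ hz (hle hi hy)) ?_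
        rw [smul_sub, sub_eq_zero]
        exact hyz.symm
      simpa using Submodule.add_mem _ h' hy
  intro z hz
  obtain ⟨k, hk⟩ := htor z
  exact key k z hz hk

theorem isArtinian_torsionBySet_of_span (s : Finset R)
    (hM : ∀ z : M, ∀ x ∈ s, ∃ k : ℕ, x ^ k • z = 0)
    (hA : IsArtinian R (Submodule.torsionBySet R M (s : Set R))) : IsArtinian R M := by
  classical
  suffices H : ∀ (s : Finset R) (M : Type v) [AddCommGroup M] [Module R M],
      (∀ z : M, ∀ x ∈ s, ∃ k : ℕ, x ^ k • z = 0) →
      IsArtinian R (Submodule.torsionBySet R M (s : Set R)) → IsArtinian R M from H s M hM hA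
  intro s
  induction s using Finset.induction_on with
  | empty =>
    intro M _ _ _ hA
    have htop : Submodule.torsionBySet R M ((∅ : Finset R) : Set R) = ⊤ := by
      ext z
      simp [Submodule.mem_torsionBySet_iff]
    rw [htop] at hA
    exact isArtinian_of_linearEquiv Submodule.topEquiv
  | insert a s ha ih =>
    intro M _ _ hM hA
    refine isArtinian_of_powers_torsion a (fun z => hM z a (Finset.mem_insert_self a s)) ?_
    refine ih _ (fun z x hx => ?_) ?_
    · obtain ⟨k, hk⟩ := hM z x (Finset.mem_insert_of_mem hx)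
      exact ⟨k, Subtype.ext hk⟩
    · let ι : Submodule.torsionBySet R (Submodule.torsionBy R M a) (s : Set R) →ₗ[R]
          Submodule.torsionBySet R M ((insert a s : Finset R) : Set R) :=
        ((Submodule.subtype _).comp (Submodule.subtype _)).codRestrict _ fun z => by
          rw [Submodule.mem_torsionBySet_iff]
          rintro ⟨x, hx⟩
          rw [Finset.coe_insert] at hx
          rcases hx with rfl | hx
          · exact (Submodule.mem_torsionBy_iff _ _).mp z.1.2
          · exact congrArg Subtype.val ((Submodule.mem_torsionBySet_iff _ _).mp z.2 ⟨x, hx⟩)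
      exact isArtinian_of_injective ι fun x y h =>
        Subtype.ext (Subtype.ext (congrArg Subtype.val h :))

theorem isArtinian_of_isArtinian_torsionBy {a : Ideal R} (ha : a.FG) (hM : IsPowerTorsion a M)
    (hA : IsArtinian R (torsionBy a M)) : IsArtinian R M := by
  obtain ⟨s, hs⟩ := ha
  refine isArtinian_torsionBySet_of_span s (fun z x hx => ?_) ?_
  · obtain ⟨k, hk⟩ := hM z
    exact ⟨k, hk _ (Ideal.pow_mem_pow (hs ▸ Ideal.subset_span hx) k)⟩
  · rw [← hs] at hA
    rw [Submodule.torsionBySet_eq_torsionBySet_span]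
    exact hA

end Groth.Agent.H4Matlis
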