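import Groth.Agent.H4Matlis.Socle
import Mathlib.RingTheory.AdicCompletion.Algebra
import Mathlib.RingTheory.AdicCompletion.Completeness

/-!
# `End E ≅ R̂` and Matlis duality over a complete local ring
-/

universe u v

open InjHull LocCoh IsLocalRing

namespace Groth.Agent.H4Matlis

variable {R : Type u} [CommRing R] [IsLocalRing R]
variable {E : Type u} [AddCommGroup E] [Module R E] {f : ResidueField R →ₗ[R] E}

local notation "m" => maximalIdeal R

theorem mk_eq_smul_one {I : Ideal R} (x : R) :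
    (Ideal.Quotient.mk I x : R ⧸ I) = x • (1 : R ⧸ I) :=
  ((Algebra.smul_def x (1 : R ⧸ I)).trans (mul_one _)).symm

theorem mem_of_killed (hf : IsInjectiveHull f) {I : Ideal R} {c : R}
    (h : ∀ x : E, (∀ a ∈ I, a • x = 0) → c • x = 0) : c ∈ I := by
  rw [← Ideal.Quotient.eq_zero_iff_mem]
  apply injective_applyₗ hf (R ⧸ I)
  ext ψ
  show ψ (Ideal.Quotient.mk I c) = ψ 0
  rw [map_zero, mk_eq_smul_one, map_smul]
  refine h _ fun a ha => ?_
  rw [← map_smul, ← mk_eq_smul_one, Ideal.Quotient.eq_zero_iff_mem.mpr ha, map_zero]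

variable [IsNoetherianRing R]

theorem isFiniteLength_quotient_pow (n : ℕ) : IsFiniteLength R (R ⧸ m ^ n) := by
  refine isFiniteLength_iff_isNoetherian_isArtinian.mpr ⟨inferInstance, (isArtinian_iff _).mpr
    ⟨fun z => ⟨n, fun c hc => ?_⟩, Module.Finite.of_restrictScalars_finite R _ _⟩⟩
  obtain ⟨z, rfl⟩ := Ideal.Quotient.mk_surjective z
  show Ideal.Quotient.mk _ (c • z) = 0
  rw [Ideal.Quotient.eq_zero_iff_mem, smul_eq_mul]
  exact Ideal.mul_mem_right _ _ hc

theorem exists_eq_smul (hf : IsInjectiveHull f) (φ : Module.End R E) (n : ℕ) :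
    ∃ c : R, ∀ x : E, (∀ a ∈ m ^ n, a • x = 0) → φ x = c • x := by
  let Φ : ((R ⧸ m ^ n) →ₗ[R] E) →ₗ[R] E := φ ∘ₗ LinearMap.applyₗ (1 : R ⧸ m ^ n)
  obtain ⟨c, hc⟩ := (bijective_applyₗ_of_isFiniteLength hf (isFiniteLength_quotient_pow n)).2 Φ
  obtain ⟨c, rfl⟩ := Ideal.Quotient.mk_surjective c
  refine ⟨c, fun x hx => ?_⟩
  let ψ : (R ⧸ m ^ n) →ₗ[R] E := (m ^ n).liftQ (LinearMap.toSpanSingleton R E x) fun a ha => by
    simpa using hx a ha
  have h2 := LinearMap.congr_fun hc ψ
  change ψ (Submodule.Quotient.mk c) = φ (ψ (Submodule.Quotient.mk 1)) at h2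
  exact Eq.trans (congrArg φ (one_smul R x).symm) h2.symm

/-- Representative of a component of an element of the completion. -/
noncomputable def rep (r : AdicCompletion m R) (n : ℕ) : R :=
  (Ideal.Quotient.mk_surjective (AdicCompletion.evalₐ m n r)).choose

omit [IsNoetherianRing R] in
theorem mk_rep (r : AdicCompletion m R) (n : ℕ) :
    Ideal.Quotient.mk (m ^ n) (rep r n) = AdicCompletion.evalₐ m n r :=
  (Ideal.Quotient.mk_surjective (AdicCompletion.evalₐ m n r)).choose_spec

omit [IsNoetherianRing R] in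
theorem rep_sub_mem {k n : ℕ} (hkn : k ≤ n) (r : AdicCompletion m R) :
    rep r n - rep r k ∈ m ^ k := by
  induction r using AdicCompletion.induction_on with
  | _ s =>
    have hk : rep (AdicCompletion.mk m R s) k - s k ∈ m ^ k := by
      rw [← Ideal.Quotient.eq, mk_rep, AdicCompletion.evalₐ_mk]
    have hn : rep (AdicCompletion.mk m R s) n - s n ∈ m ^ n := by
      rw [← Ideal.Quotient.eq, mk_rep, AdicCompletion.evalₐ_mk]
    have hs : s k - s n ∈ m ^ k := by
      have := s.2 hkn
      rw [SModEq.sub_mem] at this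
      simpa using this
    have h1 := Ideal.sub_mem _ (Ideal.sub_mem _ (Ideal.pow_le_pow_right hkn hn) hk) hs
    convert h1 using 1
    ring

/-- Action of the completion on a power torsion module. -/
noncomputable def act (hE : IsPowerTorsion m E) (r : AdicCompletion m R) (x : E) : E :=
  rep r (hE x).choose • x

omit [IsNoetherianRing R] in
theorem act_eq (hE : IsPowerTorsion m E) (r : AdicCompletion m R) {x : E} {n : ℕ} {c : R}
    (hx : ∀ a ∈ m ^ n, a • x = 0) (hc : Ideal.Quotient.mk (m ^ n) c = AdicCompletion.evalₐ m n r) :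
    act hE r x = c • x := by
  have hc' : rep r n • x = c • x := by
    rw [← sub_eq_zero, ← sub_smul]
    exact hx _ (by rw [← Ideal.Quotient.eq, mk_rep, hc])
  rw [← hc', act]
  rcases le_total (hE x).choose n with h | h
  · have := (hE x).choose_spec _ (rep_sub_mem h r)
    rw [sub_smul, sub_eq_zero] at this
    exact this.symm
  · have := hx _ (rep_sub_mem h r)
    rw [sub_smul, sub_eq_zero] at this
    exact this

/-- The completion acts on `E` by endomorphisms. -/
noncomputable def actHom (hE : IsPowerTorsion m E) (r : AdicCompletion m R) : Module.End R E where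
  toFun := act hE r
  map_add' x y := by
    obtain ⟨a, ha⟩ := hE x
    obtain ⟨b, hb⟩ := hE y
    have hx : ∀ c ∈ m ^ (max a b), c • x = 0 := fun c hc =>
      ha c (Ideal.pow_le_pow_right (le_max_left a b) hc)
    have hy : ∀ c ∈ m ^ (max a b), c • y = 0 := fun c hc =>
      hb c (Ideal.pow_le_pow_right (le_max_right a b) hc)
    rw [act_eq hE r (fun c hc => by rw [smul_add, hx c hc, hy c hc, add_zero]) (mk_rep r _),
      act_eq hE r hx (mk_rep r _), act_eq hE r hy (mk_rep r _), smul_add]
  map_smul' t x := by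
    obtain ⟨n, hn⟩ := hE x
    rw [RingHom.id_apply, act_eq hE r hn (mk_rep r n),
      act_eq hE r (fun c hc => by rw [smul_comm, hn c hc, smul_zero]) (mk_rep r n), smul_comm]

/-- `R̂ → End E` as an algebra map. -/
noncomputable def actAlg (hE : IsPowerTorsion m E) : AdicCompletion m R →ₐ[R] Module.End R E :=
  AlgHom.ofLinearMap
    { toFun := actHom hE
      map_add' := fun r s => LinearMap.ext fun x => by
        obtain ⟨n, hn⟩ := hE x
        show act hE (r + s) x = act hE r x + act hE s x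
        rw [act_eq hE (r + s) hn (c := rep r n + rep s n) (by rw [map_add, map_add, mk_rep, mk_rep]),
          act_eq hE r hn (mk_rep r n), act_eq hE s hn (mk_rep s n), add_smul]
      map_smul' := fun t r => LinearMap.ext fun x => by
        obtain ⟨n, hn⟩ := hE x
        show act hE (t • r) x = t • act hE r x
        rw [act_eq hE (t • r) hn (c := t * rep r n) (by
            rw [map_mul, map_smul, ← mk_rep r n]; rfl),
          act_eq hE r hn (mk_rep r n), mul_smul] }
    (LinearMap.ext fun x => by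
      obtain ⟨n, hn⟩ := hE x
      show act hE 1 x = x
      rw [act_eq hE 1 hn (c := 1) (by rw [map_one, map_one]), one_smul])
    (fun r s => LinearMap.ext fun x => by
      obtain ⟨n, hn⟩ := hE x
      show act hE (r * s) x = act hE r (act hE s x)
      rw [act_eq hE (r * s) hn (c := rep r n * rep s n) (by rw [map_mul, map_mul, mk_rep, mk_rep]),
        act_eq hE s hn (mk_rep s n),
        act_eq hE r (fun c hc => by rw [smul_comm, hn c hc, smul_zero]) (mk_rep r n), mul_smul])

theorem bijective_actAlg (hf : IsInjectiveHull f) :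
    Function.Bijective (actAlg (isPowerTorsion hf)) := by
  set hE := isPowerTorsion hf
  constructor
  · intro r s h
    refine AdicCompletion.ext_evalₐ fun n => ?_
    rw [← mk_rep r n, ← mk_rep s n, Ideal.Quotient.eq]
    refine mem_of_killed hf fun x hx => ?_
    have h' : act hE r x = act hE s x := LinearMap.congr_fun h x
    rw [act_eq hE r hx (mk_rep r n), act_eq hE s hx (mk_rep s n)] at h'
    rw [sub_smul, h', sub_self]
  · intro φ
    choose c hc using exists_eq_smul hf φ
    have hcauchy : AdicCompletion.IsAdicCauchy m R c := by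
      intro k n hkn
      rw [SModEq.sub_mem]
      simp only [smul_eq_mul, Ideal.mul_top]
      refine mem_of_killed hf fun x hx => ?_
      rw [sub_smul, ← hc k x hx, ← hc n x (fun a ha => hx a (Ideal.pow_le_pow_right hkn ha)), sub_self]
    refine ⟨AdicCompletion.mk m R ⟨c, hcauchy⟩, LinearMap.ext fun x => ?_⟩
    obtain ⟨n, hn⟩ := hE x
    rw [hc n x hn]
    exact act_eq hE _ hn (by rw [AdicCompletion.evalₐ_mk])

theorem nonempty_end_algEquiv (hf : IsInjectiveHull f) :
    Nonempty (Module.End R E ≃ₐ[R] AdicCompletion m R) :=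
  ⟨(AlgEquiv.ofBijective _ (bijective_actAlg hf)).symm⟩

section Complete

variable [IsAdicComplete (IsLocalRing.maximalIdeal R) R]

theorem exists_smul_eq (hf : IsInjectiveHull f) (φ : Module.End R E) : ∃ c : R, ∀ x, φ x = c • x := by
  obtain ⟨r, rfl⟩ := (bijective_actAlg hf).2 φ
  obtain ⟨c, rfl⟩ := AdicCompletion.of_surjective m R r
  refine ⟨c, fun x => ?_⟩
  obtain ⟨n, hn⟩ := isPowerTorsion hf x
  exact act_eq _ _ hn (by rw [AdicCompletion.evalₐ_of])

omit [IsNoetherianRing R] in
theorem linearMap_pi_eq {n : ℕ} (ψ : (Fin n → R) →ₗ[R] E) (c : Fin n → R) :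
    ψ c = ∑ i, c i • ψ (Pi.single i 1) := by
  conv_lhs => rw [pi_eq_sum_univ' c]
  simp

theorem surjective_applyₗ_of_finite (hf : IsInjectiveHull f) (M : Type u) [AddCommGroup M]
    [Module R M] [Module.Finite R M] :
    Function.Surjective (LinearMap.applyₗ : M →ₗ[R] (M →ₗ[R] E) →ₗ[R] E) := by
  classical
  obtain ⟨n, π, hπ⟩ := Module.Finite.exists_fin' R M
  intro Φ
  have hinj : Function.Injective (LinearMap.lcomp R E π) := fun a b h => LinearMap.ext fun x => by
    obtain ⟨x, rfl⟩ := hπ x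
    exact LinearMap.congr_fun h x
  obtain ⟨Φ', hΦ'⟩ := Module.Injective.extension_property (inj := hf.isInjective) R E _
    ((Fin n → R) →ₗ[R] E) (LinearMap.lcomp R E π) hinj Φ
  choose c hc using fun i : Fin n => exists_smul_eq hf
    (Φ' ∘ₗ LinearMap.lcomp R E (LinearMap.proj i : (Fin n → R) →ₗ[R] R) ∘ₗ
      (LinearMap.ringLmapEquivSelf R R E).symm.toLinearMap)
  refine ⟨π c, LinearMap.ext fun χ => ?_⟩
  show χ (π c) = Φ χ
  rw [← LinearMap.congr_fun hΦ' χ, LinearMap.comp_apply]
  set ψ := LinearMap.lcomp R E π χ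
  have hdec : ψ = ∑ i, LinearMap.lcomp R E (LinearMap.proj i : (Fin n → R) →ₗ[R] R)
      ((LinearMap.ringLmapEquivSelf R R E).symm (ψ (Pi.single i 1))) := by
    refine LinearMap.ext fun d => ?_
    rw [linearMap_pi_eq ψ d]
    simp [LinearMap.sum_apply]
  conv_rhs => rw [hdec, map_sum]
  show ψ c = _
  rw [linearMap_pi_eq ψ c]
  refine Finset.sum_congr rfl fun i _ => ?_
  exact (hc i _).symm

theorem bijective_applyₗ_of_finite (hf : IsInjectiveHull f) (M : Type u) [AddCommGroup M]
    [Module R M] [Module.Finite R M] :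
    Function.Bijective (LinearMap.applyₗ : M →ₗ[R] (M →ₗ[R] E) →ₗ[R] E) :=
  ⟨injective_applyₗ hf M, surjective_applyₗ_of_finite hf M⟩

theorem duality_artinian (hf : IsInjectiveHull f) (M : Type u) [AddCommGroup M] [Module R M]
    [IsArtinian R M] : Module.Finite R (M →ₗ[R] E) ∧
      Function.Bijective (LinearMap.applyₗ : M →ₗ[R] (M →ₗ[R] E) →ₗ[R] E) := by
  classical
  obtain ⟨htor, hsoc⟩ := (isArtinian_iff M).mp ‹_›
  obtain ⟨n, hn⟩ : ∃ n, Module.finrank (R ⧸ m) ↥(torsionBy m M) = n := ⟨_, rfl⟩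
  obtain ⟨g, hg⟩ := exists_embedding_pi hf htor hn
  let P : (Fin n → R) →ₗ[R] (M →ₗ[R] E) :=
    { toFun := fun c => ∑ i, c i • (LinearMap.proj i ∘ₗ g)
      map_add' := fun a b => by simp [add_smul, Finset.sum_add_distrib]
      map_smul' := fun t a => by simp [Finset.smul_sum, smul_smul] }
  have hproj : ∀ (ψ : (Fin n → E) →ₗ[R] E), ∃ c : Fin n → R, ψ = ∑ i, c i • LinearMap.proj i := by
    intro ψ
    choose c hc using fun i : Fin n => exists_smul_eq hf (ψ ∘ₗ LinearMap.single R (fun _ => E) i)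
    refine ⟨c, LinearMap.pi_ext fun i x => ?_⟩
    rw [show ψ (Pi.single i x) = c i • x from hc i x, LinearMap.sum_apply,
      Finset.sum_eq_single i (fun j _ hj => by simp [hj]) (by simp)]
    simp
  have hP : Function.Surjective P := fun χ => by
    obtain ⟨ψ, hψ⟩ := Module.Injective.extension_property (inj := hf.isInjective) R E M _ g hg χ
    obtain ⟨c, rfl⟩ := hproj ψ
    exact ⟨c, by rw [← hψ]; ext x; simp [P]⟩
  refine ⟨Module.Finite.of_surjective P hP, injective_applyₗ hf M, fun Φ => ?_⟩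
  set z : Fin n → E := fun i => Φ (LinearMap.proj i ∘ₗ g)
  have hz : z ∈ LinearMap.range g := by
    rw [← Submodule.Quotient.mk_eq_zero]
    apply injective_applyₗ hf ((Fin n → E) ⧸ LinearMap.range g)
    rw [map_zero]
    refine LinearMap.ext fun χ => ?_
    show χ (Submodule.Quotient.mk z) = 0
    obtain ⟨c, hc⟩ := hproj (χ ∘ₗ (LinearMap.range g).mkQ)
    rw [show χ (Submodule.Quotient.mk z) = (χ ∘ₗ (LinearMap.range g).mkQ) z from rfl, hc]
    have h0 : (χ ∘ₗ (LinearMap.range g).mkQ) ∘ₗ g = 0 := by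
      ext x
      simp [(Submodule.Quotient.mk_eq_zero (LinearMap.range g)).mpr (LinearMap.mem_range_self g x)]
    rw [hc, show (∑ i, c i • (LinearMap.proj i : (Fin n → E) →ₗ[R] E)) ∘ₗ g = ∑ i, c i • (LinearMap.proj i ∘ₗ g) by ext; simp] at h0
    have h1 := congrArg Φ h0
    rw [map_sum, map_zero] at h1
    rw [← h1, LinearMap.sum_apply]
    refine Finset.sum_congr rfl fun i _ => ?_
    rw [map_smul]
    rfl
  obtain ⟨x, hx⟩ := hz
  refine ⟨x, LinearMap.ext fun χ => ?_⟩
  obtain ⟨c, rfl⟩ := hP χ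
  show (P c) x = Φ (P c)
  simp [P, map_sum, map_smul, hx, z]

end Complete

end Groth.Agent.H4Matlis
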