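import Groth.Agent.H4Matlis.Duality
import Mathlib.RingTheory.Ideal.Quotient.Operations
import Mathlib.RingTheory.Ideal.MinimalPrime.Noetherian

/-!
# Socle criterion for injective hulls; torsion submodules of hulls
-/

universe u v

open InjHull LocCoh

namespace Groth.Agent.H4Matlis

variable {R : Type u} [CommRing R]
variable {E : Type u} [AddCommGroup E] [Module R E]

/-- A power torsion module with socle in the image of `f` is an essential extension. -/
theorem isEssentialInj_of_socle {m : Ideal R} {M : Type u} [AddCommGroup M] [Module R M]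
    {f : M →ₗ[R] E} (hf : Function.Injective f) (hE : IsPowerTorsion m E)
    (hs : torsionBy m E ≤ LinearMap.range f) : IsEssentialInj f :=
  H4Inj.isEssentialInj_of_forall hf fun x hx => by
    obtain ⟨r, hr, hr0⟩ := exists_least_torsion hE hx
    exact ⟨r, hs hr, hr0⟩

/-- Injective, power torsion, socle cyclic nonzero implies hull of the residue field. -/
theorem exists_hull_of_socle_cyclic {m : Ideal R} [hm : m.IsMaximal] (hinj : Module.Injective R E)
    (hE : IsPowerTorsion m E) {x : E} (hx : x ∈ torsionBy m E) (hx0 : x ≠ 0)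
    (hs : ∀ y ∈ torsionBy m E, ∃ r : R, r • x = y) :
    ∃ g : (R ⧸ m) →ₗ[R] E, IsInjectiveHull g := by
  have hle : m ≤ LinearMap.ker (LinearMap.toSpanSingleton R E x) := fun a ha => by
    simpa using (Submodule.mem_torsionBySet_iff _ _).mp hx ⟨a, ha⟩
  have heq : m = LinearMap.ker (LinearMap.toSpanSingleton R E x) :=
    hm.eq_of_le (fun h => hx0 (by
      have : (1 : R) ∈ LinearMap.ker (LinearMap.toSpanSingleton R E x) := h ▸ Submodule.mem_top
      simpa using this)) hle
  refine ⟨m.liftQ _ hle, isEssentialInj_of_socle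
    (LinearMap.ker_eq_bot.mp (Submodule.ker_liftQ_eq_bot _ _ _ heq.ge)) hE ?_, hinj⟩
  intro y hy
  obtain ⟨r, rfl⟩ := hs y hy
  exact ⟨Submodule.Quotient.mk r, rfl⟩

/-- `E[b]` is injective over `R ⧸ b`. -/
theorem injective_torsionBy (b : Ideal R) (hE : Module.Injective R E) :
    Module.Injective (R ⧸ b) ↥(torsionBy b E) := by
  refine Module.Baer.injective fun J g => ?_
  have hlin : ∀ (c : R) (x : R ⧸ b), c • x = Ideal.Quotient.mk b c * x := fun c x =>
    Algebra.smul_def c x
  let g' : Submodule.restrictScalars R J →ₗ[R] E :=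
    { toFun := fun x => (g ⟨x.1, x.2⟩ : E)
      map_add' := fun x y => congrArg Subtype.val (map_add g ⟨x.1, x.2⟩ ⟨y.1, y.2⟩)
      map_smul' := fun c x => by
        have : (⟨(c • x).1, (c • x).2⟩ : J) = Ideal.Quotient.mk b c • (⟨x.1, x.2⟩ : J) :=
          Subtype.ext (hlin c x.1)
        rw [this, map_smul]
        rfl }
  obtain ⟨G, hG⟩ := Module.Injective.extension_property (inj := hE) R E _ (R ⧸ b)
    (Submodule.restrictScalars R J).subtype Subtype.val_injective g'
  have hG' : G 1 ∈ torsionBy b E := by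
    refine (Submodule.mem_torsionBySet_iff _ _).mpr fun a => ?_
    rw [← map_smul, hlin, mul_one, Ideal.Quotient.eq_zero_iff_mem.mpr a.2, map_zero]
  refine ⟨LinearMap.toSpanSingleton (R ⧸ b) _ ⟨G 1, hG'⟩, fun x hx => ?_⟩
  obtain ⟨c, rfl⟩ := Ideal.Quotient.mk_surjective x
  refine Subtype.ext ?_
  show c • G 1 = _
  rw [← map_smul, hlin, mul_one]
  exact LinearMap.congr_fun hG ⟨Ideal.Quotient.mk b c, hx⟩

/-- If `M` is killed by `b`, the hull of `M` over `R ⧸ b` is `E[b]`. -/
theorem exists_torsionBy_hull (b : Ideal R) {M : Type u} [AddCommGroup M] [Module R M]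
    [Module (R ⧸ b) M] [IsScalarTower R (R ⧸ b) M] {f : M →ₗ[R] E} (hf : IsInjectiveHull f) :
    ∃ g : M →ₗ[R ⧸ b] ↥(torsionBy b E), IsInjectiveHull g ∧
      ∀ x : M, ((g x : torsionBy b E) : E) = f x := by
  have hsc : ∀ (c : R) (x : M), Ideal.Quotient.mk b c • x = c • x := fun c x =>
    IsScalarTower.algebraMap_smul (R ⧸ b) c x
  have hmem : ∀ x, f x ∈ torsionBy b E := fun x => (Submodule.mem_torsionBySet_iff _ _).mpr fun a => by
    rw [← map_smul, ← hsc, Ideal.Quotient.eq_zero_iff_mem.mpr a.2, zero_smul, map_zero]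
  let g : M →ₗ[R ⧸ b] ↥(torsionBy b E) :=
    { toFun := fun x => ⟨f x, hmem x⟩
      map_add' := fun x y => Subtype.ext (map_add f x y)
      map_smul' := fun c x => by
        obtain ⟨c, rfl⟩ := Ideal.Quotient.mk_surjective c
        refine Subtype.ext ?_
        show f (Ideal.Quotient.mk b c • x) = _
        rw [hsc, map_smul]
        rfl }
  refine ⟨g, ⟨H4Inj.isEssentialInj_of_forall (fun x y h => hf.injective (congrArg Subtype.val h :))
    fun x hx => ?_, injective_torsionBy b hf.isInjective⟩, fun x => rfl⟩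
  obtain ⟨r, ⟨y, hy⟩, hr0⟩ := H4Inj.exists_smul_mem_range hf.toIsEssentialInj (x := x.1)
    (fun h => hx (Subtype.ext h))
  exact ⟨Ideal.Quotient.mk b r, ⟨y, Subtype.ext hy⟩, fun h => hr0 (congrArg Subtype.val h :)⟩

variable {H : Type u} [AddCommGroup H] [Module R H]

/-- The `I`-power torsion submodule. -/
abbrev gam (I : Ideal R) (H : Type u) [AddCommGroup H] [Module R H] : Submodule R H :=
  ⨆ n : ℕ, Submodule.torsionBySet R H ((I ^ n : Ideal R) : Set R)

theorem mem_gam {I : Ideal R} {x : H} :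
    x ∈ gam I H ↔ ∃ n : ℕ, ∀ a ∈ I ^ n, a • x = 0 := by
  rw [gam, Submodule.mem_iSup_of_directed _ (Monotone.directed_le fun a b hab =>
    Submodule.torsionBySet_le_torsionBySet_of_subset (Ideal.pow_le_pow_right hab))]
  simp [Submodule.mem_torsionBySet_iff]

theorem isPowerTorsion_gam (I : Ideal R) : IsPowerTorsion I (gam I H) := fun x => by
  obtain ⟨n, hn⟩ := mem_gam.mp x.2
  exact ⟨n, fun a ha => Subtype.ext (hn a ha)⟩

theorem torsionBy_le_gam (I : Ideal R) : torsionBy I H ≤ gam I H := fun x hx =>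
  mem_gam.mpr ⟨1, fun a ha => (Submodule.mem_torsionBySet_iff _ _).mp hx ⟨a, by simpa using ha⟩⟩

theorem iSupIndep_gam : iSupIndep fun n : MaximalSpectrum R => gam n.asIdeal H := by
  intro n
  rw [Submodule.disjoint_def]
  intro x hx hx'
  let W : Submodule R H :=
    { carrier := {y | ∃ a : R, a ∉ n.asIdeal ∧ a • y = 0}
      add_mem' := by
        rintro y z ⟨a, ha, hay⟩ ⟨b, hb, hbz⟩
        exact ⟨a * b, fun h => (n.isMaximal.isPrime.mem_or_mem h).elim ha hb,
          by rw [smul_add, mul_smul, mul_smul, hbz, smul_comm, hay, smul_zero, smul_zero, add_zero]⟩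
      zero_mem' := ⟨1, fun h => n.isMaximal.ne_top ((Ideal.eq_top_iff_one _).mpr h), smul_zero _⟩
      smul_mem' := by
        rintro c y ⟨a, ha, hay⟩
        exact ⟨a, ha, by rw [smul_comm, hay, smul_zero]⟩ }
  have hW : (⨆ (j : MaximalSpectrum R) (_ : j ≠ n), gam j.asIdeal H) ≤ W := by
    refine iSup₂_le fun j hj y hy => ?_
    obtain ⟨k, hk⟩ := mem_gam.mp hy
    obtain ⟨a, haj, han⟩ : ∃ a, a ∈ j.asIdeal ∧ a ∉ n.asIdeal := by
      by_contra h
      push Not at h
      exact hj (MaximalSpectrum.ext (j.isMaximal.eq_of_le n.isMaximal.ne_top h))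
    exact ⟨a ^ k, fun h => han (n.isMaximal.isPrime.mem_of_pow_mem k h),
      hk _ (Ideal.pow_mem_pow haj k)⟩
  obtain ⟨a, ha, hax⟩ := hW hx'
  obtain ⟨k, hk⟩ := mem_gam.mp hx
  have htop : Ideal.span {a} ⊔ n.asIdeal ^ k = ⊤ := by
    by_contra h
    obtain ⟨P, hP, hle⟩ := Ideal.exists_le_maximal _ h
    have h1 : n.asIdeal ≤ P := fun y hy =>
      hP.isPrime.mem_of_pow_mem k (hle (Submodule.mem_sup_right (Ideal.pow_mem_pow hy k)))
    rw [← n.isMaximal.eq_of_le hP.ne_top h1] at hle
    exact ha (hle (Submodule.mem_sup_left (Ideal.mem_span_singleton_self a)))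
  obtain ⟨c, hc, d, hd, hcd⟩ := Submodule.mem_sup.mp (htop ▸ Submodule.mem_top : (1 : R) ∈ _)
  obtain ⟨e, rfl⟩ := Ideal.mem_span_singleton'.mp hc
  rw [← one_smul R x, ← hcd, add_smul, mul_smul, hax, smul_zero, hk d hd, add_zero]

theorem exists_pairwise_isCoprime_pow (S : Finset (MaximalSpectrum R)) (j : ℕ) :
    (S : Set (MaximalSpectrum R)).Pairwise fun a b => IsCoprime (a.asIdeal ^ j) (b.asIdeal ^ j) := by
  intro a _ b _ hab
  refine IsCoprime.pow ?_
  rw [Ideal.isCoprime_iff_sup_eq]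
  exact a.isMaximal.coprime_of_ne b.isMaximal fun h => hab (MaximalSpectrum.ext h)

theorem iSup_gam_eq_top [IsNoetherianRing R] {I : Ideal R} (hH : IsPowerTorsion I H)
    (hart : IsArtinianRing (R ⧸ I)) : (⨆ n : MaximalSpectrum R, gam n.asIdeal H) = ⊤ := by
  classical
  refine eq_top_iff.mpr fun x _ => ?_
  obtain ⟨k, hk⟩ := hH x
  set a : Ideal R := LinearMap.ker (LinearMap.toSpanSingleton R H x)
  have hmax : ∀ p ∈ a.minimalPrimes, p.IsMaximal := fun p hp => by
    have hp' : p.IsPrime := hp.1.1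
    have hIp : I ≤ p := fun y hy =>
      hp'.mem_of_pow_mem k (hp.1.2 (by simpa [a] using hk _ (Ideal.pow_mem_pow hy k)))
    have : (p.map (Ideal.Quotient.mk I)).IsPrime :=
      Ideal.map_isPrime_of_surjective Ideal.Quotient.mk_surjective (by rwa [Ideal.mk_ker])
    have h' := IsArtinianRing.isMaximal_of_isPrime (p.map (Ideal.Quotient.mk I))
    have := Ideal.comap_isMaximal_of_surjective (Ideal.Quotient.mk I)
      Ideal.Quotient.mk_surjective (H := h')
    rwa [Ideal.comap_map_of_surjective _ Ideal.Quotient.mk_surjective, ← RingHom.ker_eq_comap_bot,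
      Ideal.mk_ker, sup_eq_left.mpr hIp] at this
  let emb : {p // p ∈ a.minimalPrimes} → MaximalSpectrum R := fun p => ⟨p.1, hmax p.1 p.2⟩
  have hfin : Finite {p // p ∈ a.minimalPrimes} :=
    Ideal.finite_minimalPrimes_of_isNoetherianRing R a |>.to_subtype
  let S : Finset (MaximalSpectrum R) := (Set.finite_range emb).toFinset
  obtain ⟨j, hj⟩ := Ideal.exists_radical_pow_le_of_fg a (IsNoetherian.noetherian _)
  have hcop := exists_pairwise_isCoprime_pow S j
  have hle : (⨅ n ∈ S, n.asIdeal ^ j) ≤ a := by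
    rw [← Ideal.prod_eq_iInf_of_pairwise_isCoprime hcop, Finset.prod_pow]
    refine le_trans (Ideal.pow_right_mono ?_ j) hj
    rw [← Ideal.sInf_minimalPrimes]
    refine le_sInf fun p hp => ?_
    have hmem : emb ⟨p, hp⟩ ∈ S := by simp [S]
    exact Ideal.prod_le_inf.trans (Finset.inf_le hmem)
  have hx : x ∈ ⨆ n ∈ S, Submodule.torsionBySet R H ((n.asIdeal ^ j : Ideal R) : Set R) := by
    rw [Submodule.iSup_torsionBySet_ideal_eq_torsionBySet_iInf
      (fun a ha b hb hab => Ideal.isCoprime_iff_sup_eq.mp (hcop ha hb hab))]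
    exact (Submodule.mem_torsionBySet_iff _ _).mpr fun b => by simpa [a] using hle b.2
  refine (iSup₂_le fun n _ => ?_ : _ ≤ ⨆ n : MaximalSpectrum R, gam n.asIdeal H) hx
  exact le_iSup_of_le n (le_iSup_of_le j le_rfl)

end Groth.Agent.H4Matlis
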