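import Groth.Agent.H4Matlis.End

/-!
# The Matlis bidual of a finite module is its completion
-/

universe u v

open InjHull LocCoh IsLocalRing

namespace Groth.Agent.H4Matlis

variable {R : Type u} [CommRing R] [IsLocalRing R] [IsNoetherianRing R]
variable {E : Type u} [AddCommGroup E] [Module R E] {f : ResidueField R →ₗ[R] E}
variable (N : Type u) [AddCommGroup N] [Module R N] [Module.Finite R N]

local notation "m" => IsLocalRing.maximalIdeal R

theorem isFiniteLength_quotient_smul_top (n : ℕ) :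
    IsFiniteLength R (N ⧸ (m ^ n • ⊤ : Submodule R N)) := by
  classical
  obtain ⟨k, π, hπ⟩ := Module.Finite.exists_fin' R N
  have hle : ∀ (i : Fin k), m ^ n ≤ LinearMap.ker (LinearMap.toSpanSingleton R
      (N ⧸ (m ^ n • ⊤ : Submodule R N)) (Submodule.Quotient.mk (π (Pi.single i 1)))) := fun i a ha => by
    rw [LinearMap.mem_ker, LinearMap.toSpanSingleton_apply, ← Submodule.Quotient.mk_smul,
      Submodule.Quotient.mk_eq_zero]
    exact Submodule.smul_mem_smul ha trivial
  let g : (Fin k → R ⧸ m ^ n) →ₗ[R] (N ⧸ (m ^ n • ⊤ : Submodule R N)) :=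
    ∑ i, Submodule.liftQ _ _ (hle i) ∘ₗ LinearMap.proj i
  have hg : Function.Surjective g := fun y => by
    obtain ⟨y, rfl⟩ := Submodule.Quotient.mk_surjective _ y
    obtain ⟨c, rfl⟩ := hπ y
    refine ⟨fun i => Submodule.Quotient.mk (c i), ?_⟩
    rw [LinearMap.sum_apply]
    conv_rhs => rw [pi_eq_sum_univ' c, map_sum, ← Submodule.mkQ_apply, map_sum]
    refine Finset.sum_congr rfl fun i _ => ?_
    rw [map_smul, map_smul, LinearMap.comp_apply, LinearMap.proj_apply, Submodule.liftQ_apply,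
      LinearMap.toSpanSingleton_apply, Submodule.mkQ_apply]
  obtain ⟨_, _⟩ := isFiniteLength_iff_isNoetherian_isArtinian.mp (isFiniteLength_quotient_pow (R := R) n)
  exact isFiniteLength_iff_isNoetherian_isArtinian.mpr
    ⟨isNoetherian_of_surjective g (LinearMap.range_eq_top.2 hg), isArtinian_of_surjective _ g hg⟩

/-- Matlis: `Hom(Hom(N, E), E)` is the completion of `N`. -/
theorem nonempty_bidual_completion (hf : IsInjectiveHull f) :
    Nonempty (AdicCompletion m N ≃ₗ[R] ((N →ₗ[R] E) →ₗ[R] E)) := by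
  let Q : ℕ → Submodule R N := fun n => m ^ n • ⊤
  have hb : ∀ n, Function.Bijective
      (LinearMap.applyₗ : (N ⧸ Q n) →ₗ[R] ((N ⧸ Q n) →ₗ[R] E) →ₗ[R] E) := fun n =>
    bijective_applyₗ_of_isFiniteLength hf (isFiniteLength_quotient_smul_top N n)
  let G : ∀ n, ((N →ₗ[R] E) →ₗ[R] E) →ₗ[R] N ⧸ Q n := fun n =>
    (LinearEquiv.ofBijective _ (hb n)).symm.toLinearMap ∘ₗ
      LinearMap.lcomp R E (LinearMap.lcomp R E (Q n).mkQ)
  have hG : ∀ n Ψ (φ : (N ⧸ Q n) →ₗ[R] E), φ (G n Ψ) = Ψ (φ ∘ₗ (Q n).mkQ) := fun n Ψ φ => by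
    have h : LinearMap.applyₗ (G n Ψ) = (LinearMap.lcomp R E (LinearMap.lcomp R E (Q n).mkQ)) Ψ :=
      (LinearEquiv.ofBijective _ (hb n)).apply_symm_apply _
    exact LinearMap.congr_fun h φ
  have hcomp : ∀ {k n : ℕ} (hle : k ≤ n), AdicCompletion.transitionMap m N hle ∘ₗ G n = G k := fun hle => by
    refine LinearMap.ext fun Ψ => (hb _).1 (LinearMap.ext fun φ => ?_)
    show φ (AdicCompletion.transitionMap m N hle (G _ Ψ)) = φ (G _ Ψ)
    rw [← LinearMap.comp_apply (g := AdicCompletion.transitionMap m N hle), hG, hG, LinearMap.comp_assoc]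
    exact congrArg Ψ (LinearMap.ext fun x => rfl)
  have hfac : ∀ φ : N →ₗ[R] E, ∃ n, Q n ≤ LinearMap.ker φ := fun φ => by
    obtain ⟨s, hs⟩ := (inferInstance : Module.Finite R N).fg_top
    choose ν hν using fun x : N => isPowerTorsion hf (φ x)
    refine ⟨s.sup ν, Submodule.smul_le.2 fun a ha x hxtop => ?_⟩
    clear hxtop
    have hx : x ∈ Submodule.span R (s : Set N) := hs ▸ Submodule.mem_top
    show φ (a • x) = 0
    rw [map_smul]
    induction hx using Submodule.span_induction with
    | mem y hy => exact hν y a (Ideal.pow_le_pow_right (Finset.le_sup hy) ha)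
    | zero => simp
    | add y z _ _ h1 h2 => rw [map_add, smul_add, h1, h2, add_zero]
    | smul r y _ h1 => rw [map_smul, smul_comm, h1, smul_zero]
  refine ⟨(LinearEquiv.ofBijective (AdicCompletion.lift m G hcomp) ⟨?_, ?_⟩).symm⟩
  · refine (injective_iff_map_eq_zero _).2 fun Ψ hΨ => LinearMap.ext fun φ => ?_
    obtain ⟨n, hn⟩ := hfac φ
    have h0 : G n Ψ = 0 := congrArg (fun r : AdicCompletion m N => r.val n) hΨ
    have := hG n Ψ ((Q n).liftQ φ hn)
    rw [h0, map_zero, Submodule.liftQ_mkQ] at this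
    exact this.symm
  · intro r
    classical
    choose ν hν using hfac
    have indep : ∀ (φ : N →ₗ[R] E) (k : ℕ) (hk : Q k ≤ LinearMap.ker φ),
        (Q (ν φ)).liftQ φ (hν φ) (r.val (ν φ)) = (Q k).liftQ φ hk (r.val k) := by
      intro φ k hk
      have key : ∀ (a b : ℕ) (hab : a ≤ b) (ha : Q a ≤ LinearMap.ker φ) (hb : Q b ≤ LinearMap.ker φ),
          (Q a).liftQ φ ha (r.val a) = (Q b).liftQ φ hb (r.val b) := fun a b hab ha hb => by
        rw [← r.2 hab]
        obtain ⟨y, hy⟩ := Submodule.Quotient.mk_surjective _ (r.val b)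
        rw [← hy]
        rfl
      rcases le_total (ν φ) k with h | h
      · exact key _ _ h _ _
      · exact (key _ _ h _ _).symm
    let Ψ : (N →ₗ[R] E) →ₗ[R] E :=
      { toFun := fun φ => (Q (ν φ)).liftQ φ (hν φ) (r.val (ν φ))
        map_add' := fun φ ψ => by
          let k := max (ν φ) (ν ψ)
          have hmono : ∀ {a b : ℕ}, a ≤ b → Q b ≤ Q a := fun h =>
            Submodule.smul_mono_left (Ideal.pow_le_pow_right h)
          have h1 : Q k ≤ LinearMap.ker φ := (hmono (le_max_left _ _)).trans (hν φ)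
          have h2 : Q k ≤ LinearMap.ker ψ := (hmono (le_max_right _ _)).trans (hν ψ)
          have h3 : Q k ≤ LinearMap.ker (φ + ψ) := fun x hx => by
            rw [LinearMap.mem_ker, LinearMap.add_apply, LinearMap.mem_ker.1 (h1 hx),
              LinearMap.mem_ker.1 (h2 hx), add_zero]
          rw [indep φ k h1, indep ψ k h2, indep (φ + ψ) k h3]
          obtain ⟨y, hy⟩ := Submodule.Quotient.mk_surjective _ (r.val k)
          rw [← hy]
          rfl
        map_smul' := fun a φ => by
          have h3 : Q (ν φ) ≤ LinearMap.ker (a • φ) := fun x hx => by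
            rw [LinearMap.mem_ker, LinearMap.smul_apply, LinearMap.mem_ker.1 (hν φ hx), smul_zero]
          rw [indep (a • φ) (ν φ) h3, RingHom.id_apply]
          obtain ⟨y, hy⟩ := Submodule.Quotient.mk_surjective _ (r.val (ν φ))
          rw [← hy]
          rfl }
    refine ⟨Ψ, AdicCompletion.ext fun {n} => (hb n).1 (LinearMap.ext fun φ => ?_)⟩
    show φ (G n Ψ) = φ (r.val n)
    rw [hG]
    have hk : Q n ≤ LinearMap.ker (φ ∘ₗ (Q n).mkQ) := fun x hx => by
      rw [LinearMap.mem_ker, LinearMap.comp_apply, Submodule.mkQ_apply,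
        (Submodule.Quotient.mk_eq_zero _).2 hx, map_zero]
    refine (indep _ n hk).trans ?_
    obtain ⟨y, hy⟩ := Submodule.Quotient.mk_surjective _ (r.val n)
    rw [← hy]
    rfl

end Groth.Agent.H4Matlis
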