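import Groth.Agent.H4Matlis.Socle
import Mathlib.Algebra.Category.ModuleCat.ChangeOfRings
import Mathlib.RingTheory.Ideal.GoingUp
import Mathlib.RingTheory.Finiteness.Cardinality
import Mathlib.RingTheory.Ideal.Quotient.Basic

/-!
# Coinduced modules `Hom_A(B, E)`: injectivity and socles
-/

universe u v

open InjHull LocCoh CategoryTheory

namespace Groth.Agent.H4Matlis

variable {A B : Type u} [CommRing A] [CommRing B] [Algebra A B]
variable (E : Type u) [AddCommGroup E] [Module A E]

/-- `Hom_A(B, E)` as a `B`-module. -/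
noncomputable abbrev Coind (A B : Type u) [CommRing A] [CommRing B] [Algebra A B] (E : Type u)
    [AddCommGroup E] [Module A E] : ModuleCat.{u} B :=
  (ModuleCat.coextendScalars (algebraMap A B)).obj (ModuleCat.of A E)

variable {E}

/-- Evaluation at one. -/
noncomputable def ev (h : Coind A B E) : E :=
  ModuleCat.CoextendScalars.equiv (algebraMap A B) (ModuleCat.of A E) h (1 : B)

/-- Build an element from a linear map. -/
noncomputable def ofHom (φ : B →ₗ[A] E) : Coind A B E :=
  (ModuleCat.CoextendScalars.equiv (algebraMap A B) (ModuleCat.of A E)).symm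
    { toFun := fun b : B => φ b
      map_add' := fun x y => map_add φ x y
      map_smul' := fun a (x : B) => by
        show φ ((algebraMap A B a * x : B)) = a • φ x
        rw [← Algebra.smul_def, map_smul] }

theorem ev_smul_ofHom (φ : B →ₗ[A] E) (b : B) : ev (b • ofHom φ) = φ b := by
  show φ ((1 : B) * b) = φ b
  rw [one_mul]

theorem ev_ext {h h' : Coind A B E} (H : ∀ b : B, ev (b • h) = ev (b • h')) : h = h' := by
  apply ModuleCat.CoextendScalars.ext
  refine LinearMap.ext fun b : B => ?_
  have h0 : ModuleCat.CoextendScalars.equiv (algebraMap A B) (ModuleCat.of A E) h ((1 : B) * b : B) =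
      ModuleCat.CoextendScalars.equiv (algebraMap A B) (ModuleCat.of A E) h' ((1 : B) * b : B) := H b
  rwa [one_mul] at h0

theorem ev_add (h h' : Coind A B E) : ev (h + h') = ev h + ev h' := rfl

theorem ev_zero : ev (0 : Coind A B E) = 0 := rfl

theorem ev_algebraMap_smul (a : A) (h : Coind A B E) : ev (algebraMap A B a • h) = a • ev h := by
  show ModuleCat.CoextendScalars.equiv (algebraMap A B) (ModuleCat.of A E) h
    ((1 : B) * algebraMap A B a : B) = _
  rw [one_mul]
  refine Eq.trans (congrArg _ ?_)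
    (LinearMap.map_smul (ModuleCat.CoextendScalars.equiv (algebraMap A B) (ModuleCat.of A E) h) a (1 : B))
  show algebraMap A B a = algebraMap A B a * (1 : B)
  rw [mul_one]

/-- `ev` composed with a `B`-linear map, as an `A`-linear map. -/
noncomputable def evHom {X : Type u} [AddCommGroup X] [Module B X] [Module A X] [IsScalarTower A B X]
    (g : X →ₗ[B] Coind A B E) : X →ₗ[A] E where
  toFun x := ev (g x)
  map_add' x y := by rw [map_add, ev_add]
  map_smul' a x := by rw [← IsScalarTower.algebraMap_smul B a x, map_smul, ev_algebraMap_smul, RingHom.id_apply]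

theorem injective_coind (hE : Module.Injective A E) : Module.Injective B (Coind A B E) := by
  refine Module.Baer.injective fun J g => ?_
  obtain ⟨φ, hφ⟩ := Module.Injective.extension_property (inj := hE) A E J B
    (J.subtype.restrictScalars A) Subtype.val_injective (evHom g)
  refine ⟨LinearMap.toSpanSingleton B _ (ofHom φ), fun x hx => ev_ext fun b => ?_⟩
  rw [LinearMap.toSpanSingleton_apply, smul_smul, ev_smul_ofHom, ← map_smul g]
  exact LinearMap.congr_fun hφ (b • ⟨x, hx⟩)

theorem isArtinian_of_killed [IsLocalRing A] [IsNoetherianRing A] {M : Type v} [AddCommGroup M]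
    [Module A M] [Module.Finite A M] (h : ∀ a ∈ IsLocalRing.maximalIdeal A, ∀ x : M, a • x = 0) :
    IsArtinian A M := by
  refine isArtinian_of_isArtinian_torsionBy (IsNoetherian.noetherian (IsLocalRing.maximalIdeal A))
    (fun x => ⟨1, fun a ha => h a (by simpa using ha) x⟩) ?_
  let := Ideal.Quotient.field (IsLocalRing.maximalIdeal A)
  have : Module.Finite (A ⧸ IsLocalRing.maximalIdeal A) ↥(torsionBy (IsLocalRing.maximalIdeal A) M) :=
    Module.Finite.of_restrictScalars_finite A _ _
  exact isArtinian_of_surjective_algebraMap (R := A ⧸ IsLocalRing.maximalIdeal A)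
    Ideal.Quotient.mk_surjective

section Local

variable [IsLocalRing A] [IsNoetherianRing A] {f : IsLocalRing.ResidueField A →ₗ[A] E}

theorem exists_socle_generator (hf : IsInjectiveHull f) (n : Ideal B) [hn : n.IsMaximal]
    (hfl : IsFiniteLength A (B ⧸ n)) :
    ∃ h0 ∈ torsionBy n (Coind A B E), h0 ≠ 0 ∧
      ∀ h ∈ torsionBy n (Coind A B E), ∃ b : B, b • h0 = h := by
  have hnt : Nontrivial (B ⧸ n) := Ideal.Quotient.nontrivial_iff.mpr hn.ne_top
  obtain ⟨φ, hφ⟩ : ∃ φ : (B ⧸ n) →ₗ[A] E, φ 1 ≠ 0 := by
    by_contra hcon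
    push Not at hcon
    exact one_ne_zero (injective_applyₗ hf (B ⧸ n) (a₁ := (1 : B ⧸ n)) (a₂ := 0)
      (LinearMap.ext fun φ => by simpa using hcon φ))
  set h0 := ofHom (φ ∘ₗ (Ideal.Quotient.mkₐ A n).toLinearMap)
  have hev : ∀ b : B, ev (b • h0) = φ (Ideal.Quotient.mk n b) := fun b => ev_smul_ofHom _ b
  have hmem : h0 ∈ torsionBy n (Coind A B E) := by
    refine (Submodule.mem_torsionBySet_iff _ _).mpr fun c => ev_ext fun b => ?_
    rw [smul_smul, hev, smul_zero, ev_zero, Ideal.Quotient.eq_zero_iff_mem.mpr (n.mul_mem_left b c.2),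
      map_zero]
  have h00 : h0 ≠ 0 := fun h => hφ (by
    have := hev 1
    rwa [h, smul_zero, ev_zero, map_one, eq_comm] at this)
  refine ⟨h0, hmem, h00, fun h hh => ?_⟩
  let Ψ : (B ⧸ n) →ₗ[A] ((B ⧸ n) →ₗ[A] E) := (LinearMap.mul A (B ⧸ n)).compr₂ φ
  have hΨ : Function.Injective Ψ := by
    rw [← LinearMap.ker_eq_bot, Submodule.eq_bot_iff]
    intro c hc
    by_contra hc0
    let := Ideal.Quotient.field n
    refine hφ ?_
    have := LinearMap.congr_fun (LinearMap.mem_ker.mp hc) c⁻¹
    simpa [Ψ, hc0] using this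
  have hsurj : Function.Surjective Ψ := by
    obtain ⟨_, _⟩ := isFiniteLength_iff_isNoetherian_isArtinian.mp (isFiniteLength_hom hf hfl)
    refine LinearMap.range_eq_top.mp ?_
    by_contra hne
    have hlt := Submodule.length_lt hne
    rw [← (LinearEquiv.ofInjective Ψ hΨ).length_eq, length_hom_eq_length hf hfl] at hlt
    exact lt_irrefl _ hlt
  let χ : B →ₗ[A] E := evHom (X := B) (LinearMap.toSpanSingleton B (Coind A B E) h)
  have hker : Submodule.restrictScalars A n ≤ LinearMap.ker χ := fun c hc => by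
    show ev (c • h) = 0
    rw [(Submodule.mem_torsionBySet_iff _ _).mp hh ⟨c, hc⟩, ev_zero]
  obtain ⟨c, hc⟩ := hsurj ((Submodule.restrictScalars A n).liftQ χ hker ∘ₗ
    (Submodule.Quotient.restrictScalarsEquiv A n).symm.toLinearMap)
  obtain ⟨b, rfl⟩ := Ideal.Quotient.mk_surjective c
  refine ⟨b, ev_ext fun b' => ?_⟩
  rw [smul_smul, hev]
  have := LinearMap.congr_fun hc (Ideal.Quotient.mk n b')
  rw [mul_comm, map_mul]
  exact this

theorem exists_hull_gam_coind (hf : IsInjectiveHull f) [IsNoetherianRing B] (n : Ideal B)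
    [hn : n.IsMaximal] (hfl : IsFiniteLength A (B ⧸ n)) :
    ∃ g : (B ⧸ n) →ₗ[B] gam n (Coind A B E), IsInjectiveHull g := by
  obtain ⟨h0, hmem, h00, hgen⟩ := exists_socle_generator hf n hfl
  refine exists_hull_of_socle_cyclic (H4Inj.injective_powerTorsion (injective_coind hf.isInjective) n)
    (isPowerTorsion_gam n) (x := ⟨h0, torsionBy_le_gam n hmem⟩) ?_
    (fun h => h00 (congrArg Subtype.val h :)) fun y hy => ?_
  · exact (Submodule.mem_torsionBySet_iff _ _).mpr fun c =>
      Subtype.ext ((Submodule.mem_torsionBySet_iff _ _).mp hmem c)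
  · obtain ⟨b, hb⟩ := hgen y.1 ((Submodule.mem_torsionBySet_iff _ _).mpr fun c =>
      congrArg Subtype.val ((Submodule.mem_torsionBySet_iff _ _).mp hy c))
    exact ⟨b, Subtype.ext hb⟩

variable [Module.Finite A B]

theorem isFiniteLength_quotient_maximal (n : Ideal B) [n.IsMaximal] :
    IsFiniteLength A (B ⧸ n) := by
  have hm : (n.comap (algebraMap A B)).IsMaximal := Ideal.isMaximal_comap_of_isIntegral_of_isMaximal n
  rw [IsLocalRing.eq_maximalIdeal hm] at *
  have hsurj : Function.Surjective (Ideal.Quotient.mkₐ A n).toLinearMap := Ideal.Quotient.mk_surjective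
  have hfin : Module.Finite A (B ⧸ n) := Module.Finite.of_surjective _ hsurj
  refine isFiniteLength_iff_isNoetherian_isArtinian.mpr ⟨isNoetherian_of_isNoetherianRing_of_finite A _, ?_⟩
  refine isArtinian_of_killed fun a ha x => ?_
  rw [← IsScalarTower.algebraMap_smul (B ⧸ n) a x, IsScalarTower.algebraMap_apply A B (B ⧸ n),
    Ideal.Quotient.algebraMap_eq, Ideal.Quotient.eq_zero_iff_mem.mpr, zero_smul]
  have : a ∈ n.comap (algebraMap A B) := by
    rw [IsLocalRing.eq_maximalIdeal (Ideal.isMaximal_comap_of_isIntegral_of_isMaximal n)]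
    exact ha
  exact this

theorem isPowerTorsion_coind (hf : IsInjectiveHull f) :
    IsPowerTorsion ((IsLocalRing.maximalIdeal A).map (algebraMap A B)) (Coind A B E) := by
  intro h
  classical
  obtain ⟨s, hs⟩ := (Module.Finite.fg_top : (⊤ : Submodule A B).FG)
  choose ν hν using fun b : B => isPowerTorsion hf (ev (b • h))
  refine ⟨s.sup ν, fun c hc => ?_⟩
  rw [← Ideal.map_pow] at hc
  have hN : ∀ a ∈ IsLocalRing.maximalIdeal A ^ (s.sup ν), algebraMap A B a • h = 0 := by
    intro a ha
    refine ev_ext fun b => ?_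
    rw [smul_zero, ev_zero, smul_smul, mul_comm, ← smul_smul, ev_algebraMap_smul]
    have hmem : b ∈ Submodule.span A (s : Set B) := hs ▸ Submodule.mem_top
    induction hmem using Submodule.span_induction with
    | mem x hx => exact hν x a (Ideal.pow_le_pow_right (Finset.le_sup hx) ha)
    | zero => rw [zero_smul, ev_zero, smul_zero]
    | add x y _ _ h1 h2 => rw [add_smul, ev_add, smul_add, h1, h2, add_zero]
    | smul t x _ h1 =>
      rw [Algebra.smul_def, mul_smul, ev_algebraMap_smul, smul_comm, h1, smul_zero]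
  induction hc using Submodule.span_induction with
  | mem x hx => obtain ⟨a, ha, rfl⟩ := hx; exact hN a ha
  | zero => exact zero_smul _ _
  | add x y _ _ h1 h2 => rw [add_smul, h1, h2, add_zero]
  | smul t x _ h1 => rw [smul_eq_mul, mul_smul, h1, smul_zero]

theorem isArtinianRing_quotient_map :
    IsArtinianRing (B ⧸ (IsLocalRing.maximalIdeal A).map (algebraMap A B)) := by
  have : Module.Finite A (B ⧸ (IsLocalRing.maximalIdeal A).map (algebraMap A B)) :=
    Module.Finite.of_surjective (Ideal.Quotient.mkₐ A _).toLinearMap Ideal.Quotient.mk_surjective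
  refine isArtinian_of_tower A (isArtinian_of_killed fun a ha x => ?_)
  obtain ⟨x, rfl⟩ := Ideal.Quotient.mk_surjective x
  show Ideal.Quotient.mk _ (a • x) = 0
  rw [Ideal.Quotient.eq_zero_iff_mem, Algebra.smul_def]
  exact Ideal.mul_mem_right _ _ (Ideal.mem_map_of_mem _ ha)

end Local

end Groth.Agent.H4Matlis
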