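import Groth.Agent.H4Matlis.Socle
import Groth.Agent.S11174
import Groth.Agent.H02CA.GorFlat
import Mathlib.RingTheory.LocalRing.Length
import Mathlib.RingTheory.TensorProduct.Quotient
import Mathlib.RingTheory.Flat.FaithfullyFlat.Algebra

/-!
# Injective hulls of residue fields and flat local base change
-/

set_option autoImplicit false
set_option linter.style.haveILetI false

universe u

open IsLocalRing TensorProduct InjHull LocCoh

namespace Groth.Agent.H4Matlis

/-- `Hom(R/a, M) ≅ M[a]`. -/
noncomputable def homQuotEquivTorsionBy {R : Type u} [CommRing R] (a : Ideal R) (M : Type u) [AddCommGroup M] [Module R M] :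
    ((R ⧸ a) →ₗ[R] M) ≃ₗ[R] torsionBy a M where
  toFun φ := ⟨φ (Submodule.Quotient.mk 1), (Submodule.mem_torsionBySet_iff _ _).2 fun c => by
    rw [← map_smul, ← Submodule.Quotient.mk_smul,
      (Submodule.Quotient.mk_eq_zero _).2 (show (c : R) • (1 : R) ∈ a by rw [smul_eq_mul, mul_one]; exact c.2), map_zero]⟩
  invFun x := a.liftQ (LinearMap.toSpanSingleton R M x.1) fun c hc => by
    simpa using (Submodule.mem_torsionBySet_iff _ _).1 x.2 ⟨c, hc⟩
  left_inv φ := Submodule.linearMap_qext _ (LinearMap.ext_ring (by simp))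
  right_inv x := Subtype.ext (one_smul R (x : M))
  map_add' φ ψ := rfl
  map_smul' c φ := rfl

/-- A module whose socle is generated by one nonzero element. -/
theorem nonempty_hom_residue_equiv {R : Type u} [CommRing R] [IsLocalRing R] (M : Type u) [AddCommGroup M] [Module R M]
    (x : M) (hx : x ∈ torsionBy (maximalIdeal R) M) (hx0 : x ≠ 0)
    (hgen : ∀ y ∈ torsionBy (maximalIdeal R) M, ∃ r : R, r • x = y) :
    Nonempty ((ResidueField R →ₗ[R] M) ≃ₗ[R] ResidueField R) := by
  let ψ : R →ₗ[R] torsionBy (maximalIdeal R) M := LinearMap.toSpanSingleton R _ ⟨x, hx⟩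
  have hψ : Function.Surjective ψ := fun y => by
    obtain ⟨r, hr⟩ := hgen y.1 y.2
    exact ⟨r, Subtype.ext hr⟩
  have hker : maximalIdeal R = LinearMap.ker ψ := by
    ext r
    rw [LinearMap.mem_ker]
    refine ⟨fun hr => Subtype.ext ((Submodule.mem_torsionBySet_iff _ _).1 hx ⟨r, hr⟩), fun h => ?_⟩
    by_contra hr
    exact hx0 ((notMem_maximalIdeal.1 hr).smul_left_cancel.1 ((congrArg Subtype.val h).trans (smul_zero r).symm))
  exact ⟨(homQuotEquivTorsionBy (maximalIdeal R) M).trans
    (((Submodule.quotEquivOfEq _ _ hker).trans (ψ.quotKerEquivOfSurjective hψ)).symm)⟩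

variable (A B : Type u) [CommRing A] [IsNoetherianRing A] [CommRing B] [Algebra A B] [Module.Flat A B]

omit [IsNoetherianRing A] in
theorem torsionBy_le_of_map (J : Ideal A) (E : Type u) [AddCommGroup E] [Module A E] (y : B ⊗[A] torsionBy J E) :
    ((torsionBy J E).subtype.baseChange B) y ∈ torsionBy (J.map (algebraMap A B)) (B ⊗[A] E) := by
  induction y using TensorProduct.induction_on with
  | zero => rw [map_zero]; exact zero_mem _
  | add y y' hy hy' => rw [map_add]; exact add_mem hy hy'
  | tmul b x =>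
    rw [LinearMap.baseChange_tmul]
    suffices h : J.map (algebraMap A B) ≤ LinearMap.ker (LinearMap.toSpanSingleton B (B ⊗[A] E) (b ⊗ₜ[A] (x : E))) from
      (Submodule.mem_torsionBySet_iff _ _).2 fun c => by simpa using h c.2
    rw [Ideal.map_le_iff_le_comap]
    intro a ha
    rw [Ideal.mem_comap, LinearMap.mem_ker, LinearMap.toSpanSingleton_apply, algebraMap_smul, ← TensorProduct.tmul_smul,
      (Submodule.mem_torsionBySet_iff _ _).1 x.2 ⟨a, ha⟩, TensorProduct.tmul_zero]

/-- Torsion commutes with flat base change. -/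
theorem range_baseChange_torsionBy (J : Ideal A) (E : Type u) [AddCommGroup E] [Module A E] :
    LinearMap.range ((torsionBy J E).subtype.baseChange B) = torsionBy (J.map (algebraMap A B)) (B ⊗[A] E) := by
  classical
  refine le_antisymm (by rintro _ ⟨y, rfl⟩; exact torsionBy_le_of_map A B J E y) fun x hx => ?_
  obtain ⟨s, hs⟩ := IsNoetherian.noetherian J
  let ρ : E →ₗ[A] (s → E) := LinearMap.pi fun i => (i : A) • LinearMap.id
  have hρ : Function.Exact (torsionBy J E).subtype ρ := by
    rw [LinearMap.exact_iff, Submodule.range_subtype]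
    ext e
    rw [LinearMap.mem_ker, Submodule.mem_torsionBySet_iff]
    constructor
    · intro h c
      have hle : J ≤ LinearMap.ker (LinearMap.toSpanSingleton A E e) := hs.ge.trans (Submodule.span_le.2 fun a ha => by
        simpa [ρ] using congrFun h ⟨a, ha⟩)
      simpa using hle c.2
    · intro h
      funext i
      exact h ⟨(i : A), hs.le (Submodule.subset_span i.2)⟩
  have hex := Module.Flat.lTensor_exact B hρ
  obtain ⟨y, hy⟩ := (hex x).1 (by
    apply (TensorProduct.piRight A A B (fun _ : s => E)).injective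
    rw [map_zero]
    funext i
    have key : ∀ z : B ⊗[A] E, TensorProduct.piRight A A B (fun _ : s => E) (ρ.lTensor B z) i = (i : A) • z := by
      intro z
      induction z using TensorProduct.induction_on with
      | zero => simp
      | tmul b e => simp [ρ, TensorProduct.tmul_smul]
      | add z z' hz hz' => rw [map_add, map_add, Pi.add_apply, hz, hz', smul_add]
    rw [key, ← algebraMap_smul B, Pi.zero_apply]
    exact (Submodule.mem_torsionBySet_iff _ _).1 hx ⟨_, Ideal.mem_map_of_mem _ (hs.le (Submodule.subset_span i.2))⟩)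
  exact ⟨y, hy⟩

/-- `B ⊗ E[J] ≅ (B ⊗ E)[JB]`. -/
noncomputable def torsionByBaseChange (J : Ideal A) (E : Type u) [AddCommGroup E] [Module A E] :
    (B ⊗[A] torsionBy J E) ≃ₗ[B] torsionBy (J.map (algebraMap A B)) (B ⊗[A] E) :=
  (LinearEquiv.ofInjective ((torsionBy J E).subtype.baseChange B)
    (Module.Flat.lTensor_preserves_injective_linearMap _ (Submodule.injective_subtype _))).trans
    (LinearEquiv.ofEq _ _ (range_baseChange_torsionBy A B J E))

variable [IsLocalRing A] [IsLocalRing B] [IsNoetherianRing B] [IsLocalHom (algebraMap A B)]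

omit [IsNoetherianRing B] in
theorem length_quot_map (J : Ideal A) :
    Module.length B (B ⧸ J.map (algebraMap A B)) =
      Module.length A (A ⧸ J) * Module.length B (B ⧸ (maximalIdeal A).map (algebraMap A B)) :=
  ((Algebra.TensorProduct.quotIdealMapEquivTensorQuot B J).toLinearEquiv.length_eq).trans
    (IsLocalRing.length_baseChange A B (A ⧸ J))

omit [IsNoetherianRing B] in
theorem length_hom_map (J : Ideal A) (E : Type u) [AddCommGroup E] [Module A E] :
    Module.length B ((B ⧸ J.map (algebraMap A B)) →ₗ[B] B ⊗[A] E) =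
      Module.length A ((A ⧸ J) →ₗ[A] E) * Module.length B (B ⧸ (maximalIdeal A).map (algebraMap A B)) :=
  ((homQuotEquivTorsionBy _ (B ⊗[A] E)).length_eq).trans (((torsionByBaseChange A B J E).length_eq).symm.trans
    ((IsLocalRing.length_baseChange A B (torsionBy J E)).trans
      (congrArg (· * _) (homQuotEquivTorsionBy J E).length_eq.symm)))

/-- A flat local homomorphism with Artinian fibre having cyclic socle carries the hull to the hull. -/
theorem exists_hull_baseChange (N : ℕ)
    (hN : maximalIdeal B ^ N ≤ (maximalIdeal A).map (algebraMap A B))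
    (z : B) (hz : ∀ a ∈ maximalIdeal B, a * z ∈ (maximalIdeal A).map (algebraMap A B))
    (hzy : ∀ y : B, (∀ a ∈ maximalIdeal B, a * y ∈ (maximalIdeal A).map (algebraMap A B)) →
      ∃ r, y - r * z ∈ (maximalIdeal A).map (algebraMap A B))
    (hz0 : z ∉ (maximalIdeal A).map (algebraMap A B))
    {E : Type u} [AddCommGroup E] [Module A E] {f : ResidueField A →ₗ[A] E} (hf : IsInjectiveHull f) :
    ∃ g : ResidueField B →ₗ[B] B ⊗[A] E, IsInjectiveHull g := by
  set m := maximalIdeal A with hm
  set 𝔪 := maximalIdeal B with h𝔪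
  set mB := m.map (algebraMap A B) with hmB
  have hmB𝔪 : mB ≤ 𝔪 := Ideal.map_le_iff_le_comap.2 fun a ha => by
    rw [Ideal.mem_comap, h𝔪, mem_maximalIdeal, mem_nonunits_iff]
    exact fun hu => (mem_maximalIdeal _).1 ha (IsLocalHom.map_nonunit a hu)
  let e₀ : E := f 1
  let j : B ⊗[A] ResidueField A →ₗ[B] B ⊗[A] E := f.baseChange B
  have hj : Function.Injective j := Module.Flat.lTensor_preserves_injective_linearMap _ hf.injective
  have hzero : ∀ b : B, b ⊗ₜ[A] e₀ = 0 ↔ b ∈ mB := fun b => by
    rw [show b ⊗ₜ[A] e₀ = j (b ⊗ₜ[A] (1 : ResidueField A)) from (LinearMap.baseChange_tmul _ _ _).symm,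
      map_eq_zero_iff j hj, ← Ideal.Quotient.eq_zero_iff_mem,
      ← map_eq_zero_iff (Algebra.TensorProduct.quotIdealMapEquivTensorQuot B m) (AlgEquiv.injective _)]
    rfl
  -- the torsion of `B ⊗ E` killed by `m B` is generated by `1 ⊗ e₀`
  have hgen : ∀ x ∈ torsionBy mB (B ⊗[A] E), ∃ b : B, b ⊗ₜ[A] e₀ = x := by
    intro x hx
    rw [hmB, ← range_baseChange_torsionBy A B m E] at hx
    obtain ⟨y, rfl⟩ := hx
    induction y using TensorProduct.induction_on with
    | zero => exact ⟨0, by rw [TensorProduct.zero_tmul, map_zero]⟩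
    | add y y' hy hy' =>
      obtain ⟨b, hb⟩ := hy
      obtain ⟨b', hb'⟩ := hy'
      exact ⟨b + b', by rw [TensorProduct.add_tmul, hb, hb', map_add]⟩
    | tmul b e =>
      obtain ⟨c, hc⟩ : ∃ c : A, c • e₀ = (e : E) := by
        by_cases he : (e : E) = 0
        · exact ⟨0, by rw [zero_smul, he]⟩
        obtain ⟨r, ⟨y, hy⟩, hr0⟩ := H4Inj.exists_smul_mem_range hf.toIsEssentialInj he
        have hru : IsUnit r := notMem_maximalIdeal.1 fun hr =>
          hr0 ((Submodule.mem_torsionBySet_iff _ _).1 e.2 ⟨r, hr⟩)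
        obtain ⟨y, rfl⟩ := Ideal.Quotient.mk_surjective y
        refine ⟨↑hru.unit⁻¹ * y, hru.smul_left_cancel.1 ?_⟩
        rw [← mul_smul, ← mul_assoc, IsUnit.mul_val_inv, one_mul, ← hy, ← map_smul]
        congr 1
        exact (Algebra.smul_def y (1 : ResidueField A)).trans (mul_one _)
      exact ⟨c • b, by rw [TensorProduct.smul_tmul, hc, LinearMap.baseChange_tmul]; rfl⟩
  have hsoc : ∀ b : B, b ⊗ₜ[A] e₀ ∈ torsionBy 𝔪 (B ⊗[A] E) ↔ ∀ a ∈ 𝔪, a * b ∈ mB := fun b => by
    rw [Submodule.mem_torsionBySet_iff]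
    exact ⟨fun h a ha => (hzero _).1 (h ⟨a, ha⟩), fun h a => (hzero _).2 (h a a.2)⟩
  refine S11174.result B (B ⊗[A] E) ?_ ?_ (fun n => (m ^ n).map (algebraMap A B))
    (fun a b hab => Ideal.map_mono (Ideal.pow_le_pow_right hab)) (fun n => ⟨N * n, ?_⟩) (fun k => ⟨k, ?_⟩) fun n => ?_
  · -- torsion
    intro x
    induction x using TensorProduct.induction_on with
    | zero => exact ⟨0, fun a _ => smul_zero a⟩
    | add x y hx hy =>
      obtain ⟨n, hn⟩ := hx
      obtain ⟨n', hn'⟩ := hy
      exact ⟨max n n', fun a ha => by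
        rw [smul_add, hn a (Ideal.pow_le_pow_right (le_max_left n n') ha),
          hn' a (Ideal.pow_le_pow_right (le_max_right n n') ha), add_zero]⟩
    | tmul b e =>
      obtain ⟨n, hn⟩ := isPowerTorsion hf e
      refine ⟨N * n, fun a ha => ?_⟩
      have ha' : a ∈ (m ^ n).map (algebraMap A B) := by
        rw [Ideal.map_pow]
        rw [pow_mul] at ha
        exact Ideal.pow_right_mono hN n ha
      have hbe : b ⊗ₜ[A] e ∈ torsionBy ((m ^ n).map (algebraMap A B)) (B ⊗[A] E) := by
        rw [← range_baseChange_torsionBy A B (m ^ n) E]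
        exact ⟨b ⊗ₜ ⟨e, (Submodule.mem_torsionBySet_iff _ _).2 fun c => hn c c.2⟩, rfl⟩
      exact (Submodule.mem_torsionBySet_iff _ _).1 hbe ⟨a, ha'⟩
  · -- socle
    refine nonempty_hom_residue_equiv (B ⊗[A] E) (z ⊗ₜ e₀) ((hsoc z).2 hz) (fun h => hz0 ((hzero z).1 h)) fun x hx => ?_
    obtain ⟨b, rfl⟩ := hgen x ((Submodule.torsionBySet_le_torsionBySet_of_subset hmB𝔪) hx)
    obtain ⟨r, hr⟩ := hzy b ((hsoc b).1 hx)
    refine ⟨r, ?_⟩
    have h1 := (hzero _).2 hr
    rw [TensorProduct.sub_tmul, sub_eq_zero] at h1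
    exact (TensorProduct.smul_tmul' r z e₀).trans h1.symm
  · rw [pow_mul, Ideal.map_pow]
    exact Ideal.pow_right_mono hN n
  · rw [Ideal.map_pow]
    exact Ideal.pow_right_mono hmB𝔪 k
  · -- lengths
    have hfl : IsFiniteLength A (A ⧸ m ^ n) := by
      refine isFiniteLength_iff_isNoetherian_isArtinian.mpr ⟨inferInstance, ?_⟩
      refine (isArtinian_iff _).mpr ⟨fun w => ⟨n, fun c hc => ?_⟩, Module.Finite.of_restrictScalars_finite A _ _⟩
      obtain ⟨w, rfl⟩ := Ideal.Quotient.mk_surjective w
      show Ideal.Quotient.mk _ (c • w) = 0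
      rw [Ideal.Quotient.eq_zero_iff_mem, smul_eq_mul]
      exact Ideal.mul_mem_right _ _ hc
    rw [length_hom_map A B (m ^ n) E, length_quot_map A B (m ^ n), length_hom_eq_length hf hfl]

end Groth.Agent.H4Matlis
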