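import Groth.Agent.H4Inj.Indecomposable
import Mathlib.RingTheory.Finiteness.Cardinality

/-!
# Injectivity test for power torsion modules
-/

universe u

open LocCoh

namespace Groth.Agent.H4Matlis

variable {A : Type u} [CommRing A] [IsNoetherianRing A] {J : Ideal A} {H : Type u}
  [AddCommGroup H] [Module A H]

theorem injective_of_torsion_extension (hH : IsPowerTorsion J H)
    (hext : ∀ (M : Type u) [AddCommGroup M] [Module A M], Module.Finite A M →
      (∃ k : ℕ, (J ^ k) • (⊤ : Submodule A M) = ⊥) → ∀ (N : Submodule A M) (g : N →ₗ[A] H),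
        ∃ g' : M →ₗ[A] H, g'.comp N.subtype = g) :
    Module.Injective A H := by
  refine Module.Baer.injective fun a g => ?_
  obtain ⟨t, ht⟩ := (IsNoetherian.noetherian (⊤ : Submodule A a))
  choose ν hν using fun x : a => hH (g x)
  have hn : ∀ x : a, ∀ c ∈ J ^ (t.sup ν), c • g x = 0 := by
    intro x c hc
    have hx : x ∈ Submodule.span A (t : Set a) := ht ▸ Submodule.mem_top
    induction hx using Submodule.span_induction with
    | mem y hy => exact hν y c (Ideal.pow_le_pow_right (Finset.le_sup hy) hc)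
    | zero => simp
    | add y z _ _ h1 h2 => rw [map_add, smul_add, h1, h2, add_zero]
    | smul r y _ h1 => rw [map_smul, smul_comm, h1, smul_zero]
  obtain ⟨k, hk⟩ := H4Inj.exists_pow_inf_le J a (t.sup ν)
  let ψ : a →ₗ[A] A ⧸ J ^ k := Submodule.mkQ (J ^ k) ∘ₗ a.subtype
  have hker : LinearMap.ker ψ ≤ LinearMap.ker g := by
    intro x hx
    have hle : J ^ (t.sup ν) * a ≤ (LinearMap.ker g).map a.subtype := by
      refine Ideal.mul_le.mpr fun c hc d hd => ⟨c • ⟨d, hd⟩, ?_, rfl⟩
      rw [SetLike.mem_coe, LinearMap.mem_ker, map_smul]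
      exact hn _ c hc
    obtain ⟨y, hy, hyx⟩ := hle (hk ⟨(Submodule.Quotient.mk_eq_zero _).mp hx, x.2⟩)
    rwa [show x = y from Subtype.ext hyx.symm]
  let e : (a ⧸ LinearMap.ker ψ) ≃ₗ[A] LinearMap.range ψ := ψ.quotKerEquivRange
  obtain ⟨G, hG⟩ := hext (A ⧸ J ^ k) inferInstance ⟨k, by
    refine eq_bot_iff.mpr (Submodule.smul_le.mpr fun c hc z _ => ?_)
    obtain ⟨z, rfl⟩ := Submodule.Quotient.mk_surjective _ z
    rw [Submodule.mem_bot, ← Submodule.Quotient.mk_smul, Submodule.Quotient.mk_eq_zero]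
    exact Ideal.mul_mem_right z (J ^ k) hc⟩ (LinearMap.range ψ)
    ((LinearMap.ker ψ).liftQ g hker ∘ₗ e.symm.toLinearMap)
  refine ⟨G ∘ₗ Submodule.mkQ (J ^ k), fun x hx => ?_⟩
  have h := LinearMap.congr_fun hG (e (Submodule.Quotient.mk ⟨x, hx⟩))
  simp only [LinearMap.comp_apply, LinearEquiv.coe_coe, LinearEquiv.symm_apply_apply,
    Submodule.liftQ_apply] at h
  exact h

end Groth.Agent.H4Matlis
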