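import Groth.Agent.H4Matlis.BaseChangeHull
import Groth.Agent.H4Matlis.LocHull
import Groth.Agent.S0312
import Groth.Agent.S11679
import Groth.Agent.S8925
import Groth.Agent.H4Inj.Decompose
import Mathlib.RingTheory.RingHom.Flat

/-!
# Injective modules and flat base change unramified at all primes
-/

set_option autoImplicit false
set_option linter.style.haveILetI false

universe u

open IsLocalRing TensorProduct InjHull

namespace Groth.Agent.H4Matlis

variable {A B : Type u} [CommRing A] [CommRing B] [Algebra A B] [IsNoetherianRing A] [IsNoetherianRing B] [Module.Flat A B]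

/-- The hypothesis on primes. -/
def Unram (A B : Type u) [CommRing A] [CommRing B] [Algebra A B] : Prop :=
  ∀ q : PrimeSpectrum B, Ideal.map (algebraMap B (Localization.AtPrime q.asIdeal))
    ((q.asIdeal.comap (algebraMap A B)).map (algebraMap A B)) = maximalIdeal (Localization.AtPrime q.asIdeal)

omit [IsNoetherianRing A] [IsNoetherianRing B] [Module.Flat A B] in
theorem Unram.minimalPrimes (h : Unram A B) (p : Ideal A) [p.IsPrime] (q : Ideal B) [hq : q.IsPrime]
    (hqp : q.comap (algebraMap A B) = p) : q ∈ (p.map (algebraMap A B)).minimalPrimes := by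
  refine ⟨⟨hq, Ideal.map_le_iff_le_comap.2 hqp.ge⟩, fun r ⟨hr, hpr⟩ hrq => ?_⟩
  haveI := hr
  have hm := h ⟨q, hq⟩
  simp only at hm
  rw [hqp] at hm
  intro x hx
  have h1 : algebraMap B (Localization.AtPrime q) x ∈ r.map (algebraMap B (Localization.AtPrime q)) :=
    Ideal.map_mono hpr (hm ▸ ((IsLocalization.AtPrime.to_map_mem_maximal_iff (Localization.AtPrime q) q x).2 hx))
  obtain ⟨t, ht, htx⟩ := (IsLocalization.algebraMap_mem_map_algebraMap_iff q.primeCompl (Localization.AtPrime q) _ _).1 h1
  exact (hr.mem_or_mem htx).resolve_left fun htr => ht (hrq htr)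

omit [IsNoetherianRing B] [Module.Flat A B] in
theorem exists_local_hull (p : Ideal A) [p.IsPrime] {E : Type u} [AddCommGroup E] [Module A E]
    {f : p.ResidueField →ₗ[A] E} (hf : IsInjectiveHull f) :
    ∃ g : p.ResidueField →ₗ[Localization.AtPrime p] LocalizedModule p.primeCompl E, IsInjectiveHull g := by
  haveI hidK : IsLocalizedModule p.primeCompl (LinearMap.id : p.ResidueField →ₗ[A] p.ResidueField) := by
    refine ⟨fun s => ?_, fun y => ⟨⟨y, 1⟩, one_smul _ y⟩, fun hxy => ⟨1, by rw [LinearMap.id_apply, LinearMap.id_apply] at hxy; rw [hxy]⟩⟩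
    rw [Module.End.isUnit_iff]
    have hs0 : algebraMap A p.ResidueField s ≠ 0 := fun h0 => s.2 (Ideal.algebraMap_residueField_eq_zero.1 h0)
    exact ⟨fun a b hab => mul_left_cancel₀ hs0 (by simpa [Algebra.smul_def] using hab),
      fun b => ⟨(algebraMap A p.ResidueField s)⁻¹ * b, by simp [Algebra.smul_def, mul_inv_cancel_left₀ hs0]⟩⟩
  let eK : LocalizedModule p.primeCompl p.ResidueField ≃ₗ[Localization.AtPrime p] p.ResidueField :=
    (IsLocalizedModule.iso p.primeCompl (LinearMap.id : p.ResidueField →ₗ[A] p.ResidueField)).extendScalarsOfIsLocalization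
      p.primeCompl (Localization.AtPrime p)
  have h1 := isInjectiveHull_map p.primeCompl hf
  refine ⟨LocalizedModule.map p.primeCompl f ∘ₗ eK.symm.toLinearMap,
    H4Inj.isEssentialInj_of_forall (h1.injective.comp eK.symm.injective) fun x hx => ?_, h1.isInjective⟩
  obtain ⟨r, ⟨y, hy⟩, hr⟩ := H4Inj.exists_smul_mem_range h1.toIsEssentialInj hx
  refine ⟨r, ⟨eK y, ?_⟩, hr⟩
  rw [← hy]
  show LocalizedModule.map p.primeCompl f (eK.symm (eK y)) = _
  rw [eK.symm_apply_apply]

omit [IsNoetherianRing A] [IsNoetherianRing B] [Module.Flat A B] in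
theorem Unram.map_eq (h : Unram A B) (p : Ideal A) (q : Ideal B) [q.IsPrime] (hqp : q.comap (algebraMap A B) = p) :
    (p.map (algebraMap A B)).map (algebraMap B (Localization.AtPrime q)) = maximalIdeal (Localization.AtPrime q) := by
  subst hqp
  exact h ⟨q, ‹_›⟩

theorem injective_localization_hull (h : Unram A B) (p : Ideal A) [p.IsPrime] {E : Type u} [AddCommGroup E] [Module A E]
    {f : p.ResidueField →ₗ[A] E} (hf : IsInjectiveHull f)
    (hunit : ∀ s : p.primeCompl, Function.Bijective fun e : E => (s : A) • e)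
    (q : Ideal B) [q.IsPrime] (hqp : q.comap (algebraMap A B) = p) :
    Module.Injective B (LocalizedModule q.primeCompl (B ⊗[A] E)) := by
  let Ap := Localization.AtPrime p
  let Bq := Localization.AtPrime q
  let E' := LocalizedModule p.primeCompl E
  let φ : Ap →+* Bq := Localization.localRingHom p q (algebraMap A B) hqp.symm
  letI : Algebra Ap Bq := φ.toAlgebra
  haveI : IsScalarTower A Ap Bq := IsScalarTower.of_algebraMap_eq fun a => by
    rw [IsScalarTower.algebraMap_apply A B Bq]
    exact (Localization.localRingHom_to_map p q (algebraMap A B) hqp.symm a).symm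
  haveI : IsLocalHom (algebraMap Ap Bq) := Localization.isLocalHom_localRingHom p q (algebraMap A B) hqp.symm
  haveI : Module.Flat Ap Bq := RingHom.flat_algebraMap_iff.1
    (RingHom.Flat.localRingHom (RingHom.flat_algebraMap_iff.2 inferInstance) q p hqp.symm)
  have hm : (maximalIdeal Ap).map (algebraMap Ap Bq) = maximalIdeal Bq := by
    rw [← Localization.AtPrime.map_eq_maximalIdeal, Ideal.map_map, ← IsScalarTower.algebraMap_eq A Ap Bq,
      IsScalarTower.algebraMap_eq A B Bq, ← Ideal.map_map]
    exact h.map_eq p q hqp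
  obtain ⟨g, hg⟩ := exists_local_hull p hf
  obtain ⟨G, hG⟩ := Groth.Agent.S0312.result Ap Bq hm E' _ hg
  haveI := hG.isInjective
  -- identify the localised tensor product
  haveI hidE : IsLocalizedModule p.primeCompl (LinearMap.id : E →ₗ[A] E) :=
    ⟨fun s => (Module.End.isUnit_iff _).2 (hunit s), fun y => ⟨⟨y, 1⟩, one_smul _ y⟩,
      fun hxy => ⟨1, by rw [LinearMap.id_apply, LinearMap.id_apply] at hxy; rw [hxy]⟩⟩
  let e0 : E' ≃ₗ[A] E := IsLocalizedModule.iso p.primeCompl (LinearMap.id : E →ₗ[A] E)
  let j : E →ₗ[A] E' := LocalizedModule.mkLinearMap p.primeCompl E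
  have hj : IsBaseChange Ap j := IsLocalizedModule.isBaseChange p.primeCompl Ap j
  let e1 : LocalizedModule q.primeCompl (B ⊗[A] E) ≃ₗ[Bq] Bq ⊗[Ap] E' :=
    ((IsLocalizedModule.isBaseChange q.primeCompl Bq (LocalizedModule.mkLinearMap q.primeCompl (B ⊗[A] E))).equiv.symm.trans
      (AlgebraTensorModule.cancelBaseChange A B Bq Bq E)).trans
      ((AlgebraTensorModule.cancelBaseChange A Ap Bq Bq E).symm.trans (AlgebraTensorModule.congr (LinearEquiv.refl Bq Bq) hj.equiv))
  haveI : Module.Injective Bq (LocalizedModule q.primeCompl (B ⊗[A] E)) :=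
    H4Inj.injective_of_equiv e1 (inferInstance : Module.Injective Bq (Bq ⊗[Ap] E'))
  exact Groth.Agent.S8925.result B Bq (LocalizedModule q.primeCompl (B ⊗[A] E))

theorem injective_baseChange_hull (h : Unram A B) (p : Ideal A) [p.IsPrime] {E : Type u} [AddCommGroup E] [Module A E]
    {f : p.ResidueField →ₗ[A] E} (hf : IsInjectiveHull f)
    (hunit : ∀ s : p.primeCompl, Function.Bijective fun e : E => (s : A) • e) :
    Module.Injective B (B ⊗[A] E) := by
  classical
  let Q : Type u := {q : Ideal B // q.IsPrime ∧ q.comap (algebraMap A B) = p}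
  haveI : Finite Q := by
    haveI := (Ideal.finite_minimalPrimes_of_isNoetherianRing B (p.map (algebraMap A B))).to_subtype
    exact Finite.of_injective (β := (p.map (algebraMap A B)).minimalPrimes) (fun q => ⟨q.1, by
      haveI := q.2.1; exact h.minimalPrimes p q.1 q.2.2⟩) fun a b hab => Subtype.ext (congrArg (fun z => z.1) hab)
  haveI : Fintype Q := Fintype.ofFinite Q
  haveI hQp : ∀ q : Q, q.1.IsPrime := fun q => q.2.1
  let M := B ⊗[A] E
  let Φ : M →ₗ[B] ((q : Q) → LocalizedModule q.1.primeCompl M) :=
    LinearMap.pi fun q => LocalizedModule.mkLinearMap q.1.primeCompl M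
  -- every element is killed by a power of `p B`
  have htorA : ∀ e : E, ∃ n : ℕ, ∀ a ∈ p ^ n, a • e = 0 := by
    intro e
    obtain ⟨n, hn⟩ : ∃ n : ℕ, ∀ a ∈ maximalIdeal (Localization.AtPrime p) ^ n,
        a • (LocalizedModule.mkLinearMap p.primeCompl E e) = 0 := by
      obtain ⟨g, hg⟩ := exists_local_hull p hf
      exact isPowerTorsion hg _
    refine ⟨n, fun a ha => ?_⟩
    have h2 := hn (algebraMap A _ a) (by
      rw [← Localization.AtPrime.map_eq_maximalIdeal, ← Ideal.map_pow]; exact Ideal.mem_map_of_mem _ ha)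
    rw [algebraMap_smul, LocalizedModule.mkLinearMap_apply, LocalizedModule.smul'_mk,
      ← LocalizedModule.zero_mk (1 : p.primeCompl), LocalizedModule.mk_eq] at h2
    obtain ⟨u, hu⟩ := h2
    simp only [one_smul, smul_zero] at hu
    exact (hunit u).1 (show (u : A) • (a • e) = (u : A) • 0 by rw [smul_zero]; exact hu)
  have htor : ∀ x : M, ∃ n : ℕ, ∀ a ∈ p ^ n, algebraMap A B a • x = 0 := by
    intro x
    induction x using TensorProduct.induction_on with
    | zero => exact ⟨0, fun a _ => smul_zero _⟩
    | add x y hx hy =>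
      obtain ⟨n, hn⟩ := hx
      obtain ⟨n', hn'⟩ := hy
      exact ⟨max n n', fun a ha => by
        rw [smul_add, hn a (Ideal.pow_le_pow_right (le_max_left n n') ha),
          hn' a (Ideal.pow_le_pow_right (le_max_right n n') ha), add_zero]⟩
    | tmul b e =>
      obtain ⟨n, hn⟩ := htorA e
      exact ⟨n, fun a ha => by rw [algebraMap_smul, ← TensorProduct.tmul_smul, hn a ha, TensorProduct.tmul_zero]⟩
  have hsinv : ∀ s : p.primeCompl, Function.Bijective fun x : M => algebraMap A B s • x := by
    intro s
    let μ : E ≃ₗ[A] E := LinearEquiv.ofBijective ((s : A) • LinearMap.id) (hunit s)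
    have he : ∀ x : M, μ.toLinearMap.lTensor B x = algebraMap A B s • x := fun x => by
      rw [algebraMap_smul]
      show ((s : A) • (LinearMap.id : E →ₗ[A] E)).lTensor B x = _
      rw [LinearMap.lTensor_smul, LinearMap.smul_apply, LinearMap.lTensor_id, LinearMap.id_apply]
    refine Function.Bijective.of_comp_iff' (f := id) Function.bijective_id _ |>.1 ?_
    convert (LinearEquiv.lTensor B μ).bijective using 1
    funext x
    exact (he x).symm
  -- an ideal avoiding the fibre meets the multiplicative set
  have hmeet : ∀ J : Ideal B, (∀ q : Q, ¬ J ≤ q.1) → (∃ n : ℕ, (p ^ n).map (algebraMap A B) ≤ J) →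
      ∃ s : p.primeCompl, algebraMap A B s ∈ J := by
    intro J hJ ⟨n, hn⟩
    by_contra hno
    push Not at hno
    obtain ⟨P, hP, hJP, hdis⟩ := Ideal.exists_le_prime_disjoint J (p.primeCompl.map (algebraMap A B).toMonoidHom) (by
      rw [Set.disjoint_left]
      rintro x hxJ ⟨s, hs, rfl⟩
      exact hno ⟨s, hs⟩ hxJ)
    refine hJ ⟨P, hP, ?_⟩ hJP
    refine le_antisymm (fun a ha => ?_) fun a ha => ?_
    · by_contra hap
      exact Set.disjoint_left.1 hdis ha ⟨a, hap, rfl⟩
    · refine (hP.comap (algebraMap A B)).mem_of_pow_mem n ?_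
      exact hJP (hn (Ideal.mem_map_of_mem _ (Ideal.pow_mem_pow ha n)))
  have hann : ∀ x : M, ∃ n : ℕ, (p ^ n).map (algebraMap A B) ≤ LinearMap.ker (LinearMap.toSpanSingleton B M x) := fun x => by
    obtain ⟨n, hn⟩ := htor x
    exact ⟨n, Ideal.map_le_iff_le_comap.2 fun a ha => hn a ha⟩
  have hzero : ∀ (q : Q) (x : M), LocalizedModule.mkLinearMap q.1.primeCompl M x = 0 ↔
      ¬ LinearMap.ker (LinearMap.toSpanSingleton B M x) ≤ q.1 := fun q x => by
    rw [IsLocalizedModule.eq_zero_iff q.1.primeCompl]
    exact ⟨fun ⟨t, ht⟩ hle => t.2 (hle (by simpa [Submonoid.smul_def] using ht)), fun hle => by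
      obtain ⟨t, ht, htq⟩ := SetLike.not_le_iff_exists.1 hle
      exact ⟨⟨t, htq⟩, by simpa [Submonoid.smul_def] using ht⟩⟩
  have hΦi : Function.Injective Φ := by
    rw [injective_iff_map_eq_zero]
    intro x hx
    obtain ⟨s, hs⟩ := hmeet (LinearMap.ker (LinearMap.toSpanSingleton B M x))
      (fun q => (hzero q x).1 (congrFun hx q)) (hann x)
    exact (hsinv s).1 (show algebraMap A B s • x = algebraMap A B s • 0 by rw [smul_zero]; simpa using hs)
  have hΦs : Function.Surjective Φ := by
    intro y
    suffices key : ∀ (q : Q) (z : LocalizedModule q.1.primeCompl M), Pi.single q z ∈ LinearMap.range Φ by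
      have : y = ∑ q : Q, Pi.single q (y q) := (Finset.univ_sum_single y).symm
      rw [← LinearMap.mem_range, this]
      exact Submodule.sum_mem _ fun q _ => key q (y q)
    intro q z
    induction z using LocalizedModule.induction_on with
    | h m t =>
      -- push `m` away from the other primes of the fibre
      have hu : ∀ r : Q, r ≠ q → ∃ u : B, u ∉ q.1 ∧ LocalizedModule.mkLinearMap r.1.primeCompl M (u • m) = 0 := by
        intro r hr
        obtain ⟨n, hn⟩ := htor m
        obtain ⟨a, har, haq⟩ : ∃ a ∈ r.1, a ∉ q.1 := by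
          by_contra! hle
          have h1 := h.minimalPrimes p q.1 q.2.2
          exact hr (Subtype.ext (le_antisymm hle (h1.2 ⟨r.2.1, Ideal.map_le_iff_le_comap.2 r.2.2.ge⟩ hle)))
        refine ⟨a ^ n, fun hmem => haq (q.2.1.mem_of_pow_mem n hmem), ?_⟩
        have hm := h.map_eq p r.1 r.2.2
        have h1 : algebraMap B (Localization.AtPrime r.1) (a ^ n) ∈
            ((p ^ n).map (algebraMap A B)).map (algebraMap B (Localization.AtPrime r.1)) := by
          rw [map_pow, Ideal.map_pow, Ideal.map_pow, hm]
          exact Ideal.pow_mem_pow ((IsLocalization.AtPrime.to_map_mem_maximal_iff (Localization.AtPrime r.1) r.1 a).2 har) n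
        obtain ⟨v, hv, hva⟩ := (IsLocalization.algebraMap_mem_map_algebraMap_iff r.1.primeCompl (Localization.AtPrime r.1) _ _).1 h1
        refine (IsLocalizedModule.eq_zero_iff r.1.primeCompl _).2 ⟨⟨v, hv⟩, ?_⟩
        show v • a ^ n • m = 0
        rw [smul_smul]
        have hle : (p ^ n).map (algebraMap A B) ≤ LinearMap.ker (LinearMap.toSpanSingleton B M m) :=
          Ideal.map_le_iff_le_comap.2 fun c hc => hn c hc
        simpa using hle hva
      choose u hu1 hu2 using hu
      let U : B := ∏ r : {r : Q // r ≠ q}, u r.1 r.2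
      have hU : U ∉ q.1 := Submonoid.prod_mem q.1.primeCompl fun r _ => hu1 r.1 r.2
      have hUz : ∀ r : Q, r ≠ q → LocalizedModule.mkLinearMap r.1.primeCompl M (U • m) = 0 := fun r hr => by
        obtain ⟨c, hc⟩ := Finset.dvd_prod_of_mem (fun r : {r : Q // r ≠ q} => u r.1 r.2) (Finset.mem_univ ⟨r, hr⟩)
        rw [show U = c * u r hr by rw [mul_comm]; exact hc, mul_smul, map_smul, hu2 r hr, smul_zero]
      -- invert `U * t`
      let J := LinearMap.ker (LinearMap.toSpanSingleton B M (U • m)) ⊔ Ideal.span {U * (t : B)}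
      obtain ⟨n, hn⟩ := hann (U • m)
      obtain ⟨s, hs⟩ := hmeet J (fun r hle => by
        by_cases hr : r = q
        · rw [hr] at hle
          exact (q.2.1.mem_or_mem (hle (Submodule.mem_sup_right (Ideal.mem_span_singleton_self _)))).elim hU t.2
        · exact (hzero r (U • m)).1 (hUz r hr) (le_sup_left.trans hle)) ⟨n, hn.trans le_sup_left⟩
      obtain ⟨c, hc, d, hd, hcd⟩ := Submodule.mem_sup.1 hs
      obtain ⟨d, rfl⟩ := Ideal.mem_span_singleton'.1 hd
      obtain ⟨w, hw⟩ := (hsinv s).2 (d • U • m)
      have hUw : (U * (t : B)) • w = U • m := (hsinv s).1 (by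
        show algebraMap A B s • _ = algebraMap A B s • _
        rw [smul_comm, show algebraMap A B s • w = d • U • m from hw, ← hcd, add_smul,
          show c • U • m = 0 by simpa using hc, zero_add, ← mul_smul (U * (t : B)), mul_comm (U * (t : B)) d])
      refine ⟨w, funext fun r => ?_⟩
      show LocalizedModule.mkLinearMap r.1.primeCompl M w =
        (Pi.single q (LocalizedModule.mk m t) : (q : Q) → LocalizedModule q.1.primeCompl M) r
      by_cases hr : r = q
      · subst r
        rw [Pi.single_eq_same, LocalizedModule.mkLinearMap_apply, LocalizedModule.mk_eq]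
        refine ⟨⟨U, hU⟩, ?_⟩
        simp only [Submonoid.smul_def, one_smul]
        rw [← mul_smul]
        exact hUw
      · rw [Pi.single_eq_of_ne hr]
        have h2 : (d * (t : B)) • (0 : LocalizedModule r.1.primeCompl M) = 0 := smul_zero _
        apply (Module.End.isUnit_iff _).1 (IsLocalizedModule.map_units (LocalizedModule.mkLinearMap r.1.primeCompl M)
          (⟨algebraMap A B s, fun hm => s.2 (by
            have hm' : (s : A) ∈ r.1.comap (algebraMap A B) := hm
            rwa [r.2.2] at hm')⟩ : r.1.primeCompl)) |>.1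
        show algebraMap A B s • LocalizedModule.mkLinearMap r.1.primeCompl M w = algebraMap A B s • 0
        rw [smul_zero, ← map_smul, show algebraMap A B s • w = d • U • m from hw, map_smul, hUz r hr, smul_zero]
  haveI : ∀ q : Q, Module.Injective B (LocalizedModule q.1.primeCompl M) := fun q =>
    injective_localization_hull h p hf hunit q.1 q.2.2
  exact H4Inj.injective_of_equiv (F := (q : Q) → LocalizedModule q.1.primeCompl M) (LinearEquiv.ofBijective Φ ⟨hΦi, hΦs⟩) inferInstance

theorem injective_baseChange (h : Unram A B) (I : Type u) [AddCommGroup I] [Module A I] (hI : Module.Injective A I) :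
    Module.Injective B (B ⊗[A] I) := by
  classical
  obtain ⟨ι, E, hint, hE⟩ := H4Inj.exists_decomposition hI
  have hEi : ∀ i, Module.Injective B (B ⊗[A] E i) := fun i => by
    obtain ⟨p, hp, g, hg⟩ := H4Inj.exists_residueField_hull_of_indecomposable (hE i).1 (hE i).2
    refine injective_baseChange_hull h p hg fun s => ?_
    let μ : E i →ₗ[A] E i := (s : A) • LinearMap.id
    have hs0 : algebraMap A p.ResidueField s ≠ 0 := fun h0 => s.2 (Ideal.algebraMap_residueField_eq_zero.1 h0)
    have hμ : Function.Injective μ := H4Inj.injective_of_comp_essential hg.toIsEssentialInj μ (by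
      intro a b hab
      have h1 : (s : A) • g a = (s : A) • g b := hab
      rw [← map_smul, ← map_smul] at h1
      exact mul_left_cancel₀ hs0 (by simpa [Algebra.smul_def] using hg.injective h1))
    refine ⟨hμ, ?_⟩
    obtain ⟨ν, hν⟩ := Module.Injective.extension_property (inj := (hE i).2) A (E i) (E i) (E i) μ hμ LinearMap.id
    have hνinj : Function.Injective ν := H4Inj.injective_of_comp_essential hg.toIsEssentialInj ν (by
      intro a b hab
      have ha : ∀ a, ν (g a) = g ((algebraMap A p.ResidueField s)⁻¹ * a) := fun a => by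
        have h1 := LinearMap.congr_fun hν (g ((algebraMap A p.ResidueField s)⁻¹ * a))
        simp only [μ, LinearMap.comp_apply, LinearMap.smul_apply, LinearMap.id_apply] at h1
        rwa [← map_smul g, Algebra.smul_def, mul_inv_cancel_left₀ hs0] at h1
      have h2 := hg.injective ((ha a).symm.trans (hab.trans (ha b)))
      exact mul_left_cancel₀ (inv_ne_zero hs0) h2)
    intro e
    exact ⟨ν e, hνinj (LinearMap.congr_fun hν (ν e))⟩
  haveI := H4Inj.injective_directSum (R := B) (fun i => B ⊗[A] E i) hEi
  let e : DirectSum ι (fun i => E i) ≃ₗ[A] I := LinearEquiv.ofBijective (DirectSum.coeLinearMap E) hint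
  exact H4Inj.injective_of_equiv (F := DirectSum ι fun i => B ⊗[A] E i)
    ((TensorProduct.directSumRight A B B (fun i => E i)).symm.trans (AlgebraTensorModule.congr (LinearEquiv.refl B B) e)).symm inferInstance

end Groth.Agent.H4Matlis
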